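import Cfsg.Agent.Classical.QuadBasis

/-!
Self-adjoint endomorphisms `J` with `J² = t` a non-square on a quadratic space: the quadratic form over the quadratic
extension, uniqueness up to isometry, and the order of the centraliser.
-/

set_option autoImplicit false
set_option linter.unusedSectionVars false

namespace Cfsg.Agent.OrthExt

open Module QuadraticMap Cfsg.Agent.Classical Cfsg.Agent.Classical.Quad

universe u v w

variable {F : Type u} [Field F] {V : Type v} [AddCommGroup V] [Module F V]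

/-- Self-adjoint with square `t`. -/
structure IsSA (Q : QuadraticForm F V) (J : V →ₗ[F] V) (t : F) : Prop where
  sa : ∀ x y, polar Q (J x) y = polar Q x (J y)
  sq : ∀ x, J (J x) = t • x

variable {Q : QuadraticForm F V} {J : V →ₗ[F] V} {t : F}

theorem IsSA.map_J (h2 : (2 : F) ≠ 0) (hJ : IsSA Q J t) (x : V) : Q (J x) = t * Q x := by
  refine mul_left_cancel₀ h2 ?_
  rw [← polar_self', hJ.sa, hJ.sq, polar_smul_right, polar_self', smul_eq_mul]
  ring

theorem fact_nonsquare (ht : ¬ IsSquare t) : Fact (∀ r : F, r ^ 2 ≠ t + 0 * r) :=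
  ⟨fun r hr => ht ⟨r, by linear_combination -hr⟩⟩

/-- The space with the action of `F[X]/(X² - t)` given by `J`. -/
def Tw (_hJ : IsSA Q J t) : Type v := V

variable {hJ : IsSA Q J t}

instance : AddCommGroup (Tw hJ) := inferInstanceAs (AddCommGroup V)

instance : Module F (Tw hJ) := inferInstanceAs (Module F V)

instance [FiniteDimensional F V] : FiniteDimensional F (Tw hJ) := inferInstanceAs (FiniteDimensional F V)

/-- The underlying space. -/
def ofTw (hJ : IsSA Q J t) : Tw hJ ≃ₗ[F] V := LinearEquiv.refl F V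

instance : SMul (QuadraticAlgebra F t 0) (Tw hJ) :=
  ⟨fun l v => (ofTw hJ).symm (l.re • ofTw hJ v + l.im • J (ofTw hJ v))⟩

theorem ofTw_smul (hJ : IsSA Q J t) (l : QuadraticAlgebra F t 0) (v : Tw hJ) :
    ofTw hJ (l • v) = l.re • ofTw hJ v + l.im • J (ofTw hJ v) := rfl

instance : Module (QuadraticAlgebra F t 0) (Tw hJ) where
  one_smul v := (ofTw hJ).injective (by simp [ofTw_smul, QuadraticAlgebra.re_one, QuadraticAlgebra.im_one])
  mul_smul a b v := (ofTw hJ).injective (by
    rw [ofTw_smul, ofTw_smul, ofTw_smul, map_add, map_smul, map_smul, hJ.sq, QuadraticAlgebra.re_mul,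
      QuadraticAlgebra.im_mul]
    module)
  smul_zero a := (ofTw hJ).injective (by simp [ofTw_smul])
  smul_add a x y := (ofTw hJ).injective (by simp [ofTw_smul]; abel)
  add_smul a b x := (ofTw hJ).injective (by simp [ofTw_smul, add_smul]; abel)
  zero_smul x := (ofTw hJ).injective (by simp [ofTw_smul])

instance : IsScalarTower F (QuadraticAlgebra F t 0) (Tw hJ) :=
  ⟨fun a l v => (ofTw hJ).injective (by simp [ofTw_smul, mul_smul])⟩

/-- The symmetric bilinear form over the extension. -/
def bilL (hJ : IsSA Q J t) : LinearMap.BilinForm (QuadraticAlgebra F t 0) (Tw hJ) :=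
  LinearMap.mk₂ _ (fun u v => ⟨2⁻¹ * polar Q (ofTw hJ u) (J (ofTw hJ v)), 2⁻¹ * polar Q (ofTw hJ u) (ofTw hJ v)⟩)
    (fun x y z => by
      ext <;> simp [map_add, polar_add_left, mul_add])
    (fun c x z => by
      ext <;> simp [ofTw_smul, polar_add_left, polar_smul_left, hJ.sa, hJ.sq, polar_smul_right] <;> ring)
    (fun x y z => by
      ext <;> simp [map_add, polar_add_right, mul_add])
    (fun c x z => by
      ext <;> simp [ofTw_smul, polar_add_right, polar_smul_right, hJ.sq] <;> ring)

/-- The quadratic form over the extension. -/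
def qfL (hJ : IsSA Q J t) : QuadraticForm (QuadraticAlgebra F t 0) (Tw hJ) :=
  LinearMap.BilinMap.toQuadraticMap (bilL hJ)

theorem qfL_apply (hJ : IsSA Q J t) (u : Tw hJ) :
    qfL hJ u = ⟨2⁻¹ * polar Q (ofTw hJ u) (J (ofTw hJ u)), 2⁻¹ * polar Q (ofTw hJ u) (ofTw hJ u)⟩ := rfl

theorem qfL_im (h2 : (2 : F) ≠ 0) (hJ : IsSA Q J t) (u : Tw hJ) : (qfL hJ u).im = Q (ofTw hJ u) := by
  rw [qfL_apply, polar_self', ← mul_assoc, inv_mul_cancel₀ h2, one_mul]

theorem polar_qfL_im (h2 : (2 : F) ≠ 0) (hJ : IsSA Q J t) (u v : Tw hJ) :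
    (polar (qfL hJ) u v).im = polar Q (ofTw hJ u) (ofTw hJ v) := by
  simp only [polar, QuadraticAlgebra.im_sub, qfL_im h2, map_add]

theorem qfL_nondeg [Fact (∀ r : F, r ^ 2 ≠ t + 0 * r)] (h2 : (2 : F) ≠ 0) (hQ : (polarBilin Q).Nondegenerate) (hJ : IsSA Q J t) :
    (polarBilin (qfL hJ)).Nondegenerate := nondeg_of fun x hx => (ofTw hJ).injective (by
  rw [map_zero]
  refine Quad.eq_zero_of_polar hQ fun y => ?_
  rw [← (ofTw hJ).apply_symm_apply y, ← polar_qfL_im h2 hJ]
  exact congrArg QuadraticAlgebra.im (hx ((ofTw hJ).symm y)))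

theorem finrank_Tw [FiniteDimensional F V] (hJ : IsSA Q J t) [Fact (∀ r : F, r ^ 2 ≠ t + 0 * r)] :
    2 * finrank (QuadraticAlgebra F t 0) (Tw hJ) = finrank F V := by
  rw [← (ofTw hJ).finrank_eq, ← Module.finrank_mul_finrank F (QuadraticAlgebra F t 0) (Tw hJ),
    QuadraticAlgebra.finrank_eq_two]

/-! ### Comparing types -/

section types

variable [Fact (∀ r : F, r ^ 2 ≠ t + 0 * r)] [FiniteDimensional F V]
  {U : Type w} [AddCommGroup U] [Module (QuadraticAlgebra F t 0) U] [FiniteDimensional (QuadraticAlgebra F t 0) U]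
  [Module F U] [IsScalarTower F (QuadraticAlgebra F t 0) U]

/-- Singular subspaces from a decomposition over the extension. -/
theorem index_of_decomp (h2 : (2 : F) ≠ 0) (hQ : (polarBilin Q).Nondegenerate) (hJ : IsSA Q J t) {m : ℕ}
    {R : QuadraticForm (QuadraticAlgebra F t 0) U} (e : Tw hJ ≃ₗ[QuadraticAlgebra F t 0]
      ((Fin m → QuadraticAlgebra F t 0) × (Fin m → QuadraticAlgebra F t 0)) × U)
    (he : ∀ x, hyp R m (e x) = qfL hJ x) (T : Submodule F U) (hT : ∀ x ∈ T, (R x).im = 0) :
    (∃ W : Submodule F V, (∀ w ∈ W, Q w = 0) ∧ finrank F W = 2 * m + finrank F T) ∧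
      ((∀ r, (R r).im = 0 → (∀ x ∈ T, (polar R r x).im = 0) → r ∈ T) →
        ∀ W : Submodule F V, (∀ w ∈ W, Q w = 0) → finrank F W ≤ 2 * m + finrank F T) := by
  let ψ : V ≃ₗ[F] ((Fin m → QuadraticAlgebra F t 0) × (Fin m → QuadraticAlgebra F t 0)) × U :=
    (ofTw hJ).symm.trans (e.restrictScalars F)
  have hψQ : ∀ x, (hyp R m (ψ x)).im = Q x := fun x => by
    rw [show hyp R m (ψ x) = qfL hJ ((ofTw hJ).symm x) from he _, qfL_im h2, LinearEquiv.apply_symm_apply]
  let f : (Fin m → QuadraticAlgebra F t 0) × T →ₗ[F]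
      ((Fin m → QuadraticAlgebra F t 0) × (Fin m → QuadraticAlgebra F t 0)) × U :=
    LinearMap.prod ((LinearMap.inl F _ _).comp (LinearMap.fst F _ _)) (T.subtype.comp (LinearMap.snd F _ _))
  have hf : ∀ a, f a = ((a.1, 0), (a.2 : U)) := fun a => rfl
  set W₁ := LinearMap.range (ψ.symm.toLinearMap.comp f) with hW₁
  have hsing : ∀ w ∈ W₁, Q w = 0 := by
    rintro _ ⟨a, rfl⟩
    rw [← hψQ, LinearMap.comp_apply, LinearEquiv.coe_coe, LinearEquiv.apply_symm_apply, hf, hyp_apply]
    simp [hT _ a.2.2]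
  have hd : finrank F W₁ = 2 * m + finrank F T := by
    rw [hW₁, LinearMap.finrank_range_of_inj]
    · haveI : FiniteDimensional F U := Module.Finite.trans (QuadraticAlgebra F t 0) U
      rw [Module.finrank_prod, Module.finrank_pi_fintype, Finset.sum_const, Finset.card_univ, Fintype.card_fin,
        smul_eq_mul, QuadraticAlgebra.finrank_eq_two, mul_comm]
    · exact ψ.symm.injective.comp fun a b h => by
        rw [hf, hf] at h
        exact Prod.ext (congrArg (fun p => p.1.1) h) (Subtype.ext (congrArg Prod.snd h))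
  refine ⟨⟨W₁, hsing, hd⟩, fun hmax W hW => ?_⟩
  by_contra hlt
  push Not at hlt
  have hmax' : ∀ W' : Submodule F V, W₁ ≤ W' → (∀ w ∈ W', Q w = 0) → W' = W₁ := by
    intro W' hle hW'
    refine le_antisymm (fun x hx => ?_) hle
    have hp : ∀ a, (polar (hyp R m) (ψ x) (f a)).im = 0 := fun a => by
      have hmem : ψ.symm (f a) ∈ W' := hle ⟨a, rfl⟩
      have h := hW' _ (W'.add_mem hx hmem)
      rw [← hψQ, map_add, LinearEquiv.apply_symm_apply, map_add', QuadraticAlgebra.im_add, QuadraticAlgebra.im_add,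
        hψQ, hW' x hx, ← ψ.apply_symm_apply (f a), hψQ, hW' _ hmem, ψ.apply_symm_apply, zero_add, zero_add] at h
      exact h
    have hy : (ψ x).1.2 = 0 := by
      funext i
      have key : ∀ l : QuadraticAlgebra F t 0, (l * (ψ x).1.2 i).im = 0 := fun l => by
        have h := hp (Pi.single i l, 0)
        rw [hf, polar_hyp] at h
        simpa [Pi.single_apply, mul_comm] using h
      have k1 := key 1
      have k2 := key ⟨0, 1⟩
      rw [one_mul] at k1
      rw [QuadraticAlgebra.im_mul] at k2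
      simp [k1] at k2
      exact QuadraticAlgebra.ext k2 k1
    have hr : (ψ x).2 ∈ T := by
      refine hmax _ ?_ fun z hz => ?_
      · have h := hψQ x
        rw [hW' x hx, hyp_apply, hy] at h
        simpa using h
      · have h := hp (0, ⟨z, hz⟩)
        rw [hf, polar_hyp, hy] at h
        simpa using h
    exact ⟨((ψ x).1.1, ⟨(ψ x).2, hr⟩), ψ.injective (by
      rw [LinearMap.comp_apply, LinearEquiv.coe_coe, LinearEquiv.apply_symm_apply, hf]
      exact Prod.ext (Prod.ext rfl hy.symm) rfl)⟩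
  have := finrank_eq_of_maximal hQ hsing hW hmax' (by omega)
  omega

end types

variable [Finite F]

/-- Every element of `F` is a square in the quadratic extension. -/
theorem exists_sqrt (h2 : (2 : F) ≠ 0) (ht : ¬ IsSquare t) (a : F) :
    ∃ l : QuadraticAlgebra F t 0, l * l = algebraMap F _ a := by
  by_cases ha : a = 0
  · exact ⟨0, by simp [ha]⟩
  have hodd : ringChar F ≠ 2 := fun h => h2 (by
    have : CharP F 2 := h ▸ ringChar.charP F
    exact CharTwo.two_eq_zero)
  rcases square_or_div_square ht ha with ⟨s, hs⟩ | ⟨s, hs⟩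
  · have hs0 : s ≠ 0 := fun h => by simp [h] at hs
    refine ⟨algebraMap F _ s⁻¹, ?_⟩
    rw [← map_mul]
    congr 1
    field_simp
    linear_combination -hs
  · have hs0 : s ≠ 0 := fun h => ht (by rw [← hs, h]; simp)
    refine ⟨⟨0, s⁻¹⟩, ?_⟩
    ext <;> simp [QuadraticAlgebra.re_mul, QuadraticAlgebra.im_mul]
    field_simp
    linear_combination -hs

/-- The standard form over the extension attached to the type of the space. -/
theorem qfL_cases [FiniteDimensional F V] (h2 : (2 : F) ≠ 0) (ht : ¬ IsSquare t)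
    [Fact (∀ r : F, r ^ 2 ≠ t + 0 * r)] (hQ : (polarBilin Q).Nondegenerate) (hJ : IsSA Q J t) {d : ℕ}
    (hd : finrank F V = 2 * d) :
    (∀ m, d = 2 * m → Iso (hyp (zeroForm (QuadraticAlgebra F t 0)) m) (qfL hJ) ∧
        (∃ W : Submodule F V, (∀ w ∈ W, Q w = 0) ∧ finrank F W = d) ∨
      1 ≤ m ∧ (∀ a b : QuadraticAlgebra F t 0, (∀ z₁ z₂, z₁ ^ 2 + a * z₁ * z₂ + b * z₂ ^ 2 = 0 → z₁ = 0 ∧ z₂ = 0) →
        Iso (hyp (binForm a b) (m - 1)) (qfL hJ)) ∧
        ∀ W : Submodule F V, (∀ w ∈ W, Q w = 0) → finrank F W < d) ∧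
    ∀ m, d = 2 * m + 1 → ∃ c : QuadraticAlgebra F t 0, c ≠ 0 ∧
      Iso (hyp (c • sqForm (QuadraticAlgebra F t 0)) m) (qfL hJ) ∧
      (IsSquare c ↔ ∃ W : Submodule F V, (∀ w ∈ W, Q w = 0) ∧ finrank F W = d) := by
  haveI : Finite (QuadraticAlgebra F t 0) := Module.finite_of_finite F
  haveI : Module.Finite (QuadraticAlgebra F t 0) (Tw hJ) := Module.Finite.of_restrictScalars_finite F _ _
  have hdim : finrank (QuadraticAlgebra F t 0) (Tw hJ) = d := by
    have := finrank_Tw (t := t) hJ
    omega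
  have hβ := qfL_nondeg h2 hQ hJ
  have h2L : (2 : QuadraticAlgebra F t 0) ≠ 0 := fun h => h2 (congrArg QuadraticAlgebra.re h)
  refine ⟨fun m hm => ?_, fun m hm => ?_⟩
  · rcases even_cases hβ (m := m) (by omega) with h | ⟨hm1, h⟩
    · refine Or.inl ⟨h, ?_⟩
      obtain ⟨e, he⟩ := h.symm
      obtain ⟨⟨W, hW, hWd⟩, -⟩ := index_of_decomp h2 hQ hJ e he ⊥ (fun x hx => by
        rw [(Submodule.mem_bot F).1 hx, map_zero]; rfl)
      exact ⟨W, hW, by rw [hWd, finrank_bot]; omega⟩
    · refine Or.inr ⟨hm1, h, fun W hW => ?_⟩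
      obtain ⟨ζ, hζ⟩ := exists_rootfree (F := QuadraticAlgebra F t 0)
      have hab := rootfree_aniso hζ
      obtain ⟨e, he⟩ := (h _ _ hab).symm
      have hx : binForm (1 : QuadraticAlgebra F t 0) ζ (1, 0) = 1 := by simp [binForm_apply]
      set x : QuadraticAlgebra F t 0 × QuadraticAlgebra F t 0 := (1, 0)
      have hT : ∀ y ∈ Submodule.span F {x}, (binForm (1 : QuadraticAlgebra F t 0) ζ y).im = 0 := by
        intro y hy
        obtain ⟨a, rfl⟩ := Submodule.mem_span_singleton.1 hy
        rw [← algebraMap_smul (QuadraticAlgebra F t 0) a x, map_smul', hx, mul_one, ← map_mul]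
        rfl
      have hmax : ∀ r, (binForm (1 : QuadraticAlgebra F t 0) ζ r).im = 0 →
          (∀ y ∈ Submodule.span F {x}, (polar (binForm (1 : QuadraticAlgebra F t 0) ζ) r y).im = 0) →
          r ∈ Submodule.span F {x} := by
        intro r h0 hp
        have hg := hp x (Submodule.mem_span_singleton_self x)
        set R := binForm (1 : QuadraticAlgebra F t 0) ζ with hR
        obtain ⟨f, hf⟩ : ∃ f : F, R r = algebraMap F _ f := ⟨(R r).re, QuadraticAlgebra.ext rfl h0⟩
        obtain ⟨g, hg'⟩ : ∃ g : F, polar R r x = algebraMap F _ g := ⟨(polar R r x).re, QuadraticAlgebra.ext rfl hg⟩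
        obtain ⟨s, hs⟩ := exists_sqrt (t := t) h2 ht (g * g - 4 * f)
        rw [map_sub, map_mul, map_mul, map_ofNat] at hs
        set c : QuadraticAlgebra F t 0 := (s - algebraMap F _ g) / 2 with hc
        have hzero : R (r + c • x) = 0 := by
          rw [map_add', map_smul', polar_smul_right, smul_eq_mul, hx, hf, hg', hc]
          field_simp
          linear_combination hs
        have hrc : r = (-c) • x := by
          rw [neg_smul]
          exact eq_neg_of_add_eq_zero_left (by_contra fun h0' => binForm_ne_zero hab h0' hzero)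
        have hc' : algebraMap F (QuadraticAlgebra F t 0) g = -(2 * c) := by
          rw [← hg', hrc, polar_smul_left, polar_self', hx, smul_eq_mul]
          ring
        have hcF : c = algebraMap F _ (-g / 2) := by
          rw [map_div₀, map_neg, map_ofNat, hc']
          field_simp
        rw [hrc, hcF, ← map_neg, algebraMap_smul]
        exact Submodule.smul_mem _ _ (Submodule.mem_span_singleton_self x)
      have := (index_of_decomp h2 hQ hJ e he _ hT).2 hmax W hW
      rw [finrank_span_singleton (fun h => one_ne_zero (congrArg Prod.fst h) : x ≠ 0)] at this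
      omega
  · obtain ⟨c, hc, -, h⟩ := odd_case hβ (m := m) (by omega)
    refine ⟨c, hc, h, ?_⟩
    obtain ⟨e, he⟩ := h.symm
    constructor
    · rintro ⟨s, hs⟩
      have hs0 : s ≠ 0 := fun h0 => hc (by rw [hs, h0, mul_zero])
      obtain ⟨⟨W, hW, hWd⟩, -⟩ := index_of_decomp h2 hQ hJ e he (Submodule.span F {s⁻¹}) (fun y hy => by
        obtain ⟨a, rfl⟩ := Submodule.mem_span_singleton.1 hy
        have : c * (a • s⁻¹ * (a • s⁻¹)) = algebraMap F _ (a * a) := by
          rw [hs, Algebra.smul_def, map_mul]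
          field_simp
        rw [QuadraticMap.smul_apply, sqForm, linMulLin_apply, LinearMap.id_apply, smul_eq_mul, this]
        rfl)
      refine ⟨W, hW, ?_⟩
      rw [hWd, finrank_span_singleton (inv_ne_zero hs0)]
      omega
    · rintro ⟨W, hW, hWd⟩
      by_contra hns
      have := (index_of_decomp h2 hQ hJ e he ⊥ (fun x hx => by
        rw [(Submodule.mem_bot F).1 hx, map_zero]; rfl)).2 (fun r h0 _ => by
        rw [Submodule.mem_bot]
        by_contra hr
        obtain ⟨l, hl⟩ := exists_sqrt (t := t) h2 ht (c * (r * r)).re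
        refine hns ⟨l / r, ?_⟩
        have h0' : (c * (r * r)).im = 0 := h0
        have : l * l = c * (r * r) := hl.trans (QuadraticAlgebra.ext rfl h0'.symm)
        field_simp
        linear_combination -this) W hW
      rw [finrank_bot] at this
      omega

end Cfsg.Agent.OrthExt
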