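import Cfsg.Agent.OrthExt.Basic
import Cfsg.Agent.Classical.OrthChar

/-!
Uniqueness of self-adjoint structures up to isometry and the order of their centralisers.
-/

set_option autoImplicit false
set_option linter.unusedSectionVars false
set_option linter.style.haveILetI false

namespace Cfsg.Agent.OrthExt

open Module QuadraticMap Cfsg.Agent.Classical Cfsg.Agent.Classical.Quad

universe u v

variable {F : Type u} [Field F] [Finite F] {V : Type v} [AddCommGroup V] [Module F V] [FiniteDimensional F V]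
  {Q : QuadraticForm F V} {J : V →ₗ[F] V} {t : F}

theorem iso_sq_smul {L : Type u} [Field L] [Finite L] {c c' : L} (hc : c ≠ 0) (hc' : c' ≠ 0)
    (h : IsSquare c ↔ IsSquare c') : Iso (c • sqForm L) (c' • sqForm L) := by
  obtain ⟨s, hs⟩ : IsSquare (c / c') := by
    rw [← qs_eq_one, div_eq_mul_inv, qs_mul hc (inv_ne_zero hc')]
    have : qs c'⁻¹ = qs c := by
      by_cases hq : IsSquare c
      · rw [qs_eq_one.2 hq, qs_eq_one.2 (h.1 hq).inv]
      · rw [(Int.units_eq_one_or (qs c)).resolve_left (mt qs_eq_one.1 hq),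
          (Int.units_eq_one_or (qs c'⁻¹)).resolve_left (mt qs_eq_one.1 fun h' => hq (h.2 (by simpa using h'.inv)))]
    rw [this, Int.units_mul_self]
  have hs0 : s ≠ 0 := fun h0 => div_ne_zero hc hc' (by rw [hs, h0, mul_zero])
  refine ⟨LinearEquiv.smulOfUnit (Units.mk0 s hs0), fun x => ?_⟩
  rw [div_eq_iff hc'] at hs
  show c' * ((s * x) * (s * x)) = c * (x * x)
  rw [hs]
  ring

theorem exists_conj (h2 : (2 : F) ≠ 0) (ht : ¬ IsSquare t) (hQ : (polarBilin Q).Nondegenerate) {d : ℕ}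
    (hd : finrank F V = 2 * d) (hJ : IsSA Q J t) {J' : V →ₗ[F] V} (hJ' : IsSA Q J' t) :
    ∃ g : oG Q, ∀ v, g.1 (J v) = J' (g.1 v) := by
  haveI := fact_nonsquare ht
  haveI : Finite (QuadraticAlgebra F t 0) := Module.finite_of_finite F
  have hiso : Iso (qfL hJ) (qfL hJ') := by
    rcases Nat.even_or_odd d with ⟨m, hm⟩ | ⟨m, hm⟩
    · obtain ⟨ζ, hζ⟩ := exists_rootfree (F := QuadraticAlgebra F t 0)
      have hab := rootfree_aniso hζ
      rcases (qfL_cases h2 ht hQ hJ hd).1 m (by omega) with ⟨h, W, hW, hWd⟩ | ⟨-, h, hb⟩ <;>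
        rcases (qfL_cases h2 ht hQ hJ' hd).1 m (by omega) with ⟨h', W', hW', hWd'⟩ | ⟨-, h', hb'⟩
      · exact h.symm.trans h'
      · exact absurd hWd (hb' W hW).ne
      · exact absurd hWd' (hb W' hW').ne
      · exact (h _ _ hab).symm.trans (h' _ _ hab)
    · obtain ⟨c, hc, h, hP⟩ := (qfL_cases h2 ht hQ hJ hd).2 m hm
      obtain ⟨c', hc', h', hP'⟩ := (qfL_cases h2 ht hQ hJ' hd).2 m hm
      exact (h.symm.trans (iso_hyp (iso_sq_smul hc hc' (hP.trans hP'.symm)) m)).trans h'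
  obtain ⟨e, he⟩ := hiso
  refine ⟨⟨(ofTw hJ).symm.trans ((e.restrictScalars F).trans (ofTw hJ')), fun x => ?_⟩, fun v => ?_⟩
  · show Q (ofTw hJ' (e ((ofTw hJ).symm x))) = Q x
    rw [← qfL_im h2, he, qfL_im h2, LinearEquiv.apply_symm_apply]
  · show ofTw hJ' (e ((ofTw hJ).symm (J v))) = J' (ofTw hJ' (e ((ofTw hJ).symm v)))
    have hv : (ofTw hJ).symm (J v) = (⟨0, 1⟩ : QuadraticAlgebra F t 0) • (ofTw hJ).symm v :=
      (ofTw hJ).injective (by simp [ofTw_smul])
    rw [hv, map_smul, ofTw_smul]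
    simp

/-- The isometries commuting with `J`. -/
def centJ (Q : QuadraticForm F V) (J : V →ₗ[F] V) : Subgroup (oG Q) where
  carrier := {g | ∀ v, g.1 (J v) = J (g.1 v)}
  mul_mem' := fun {g h} hg hh v => by rw [oG_mul_apply, oG_mul_apply, hh, hg]
  one_mem' := fun v => by simp
  inv_mem' := fun {g} hg v => g.1.injective (by rw [oG_apply_inv, hg, oG_apply_inv])

theorem card_centJ [Fact (∀ r : F, r ^ 2 ≠ t + 0 * r)] (h2 : (2 : F) ≠ 0) (hJ : IsSA Q J t) :
    Nat.card (centJ Q J) = Nat.card (oG (qfL hJ)) := by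
  refine Nat.card_eq_of_bijective (fun g => (⟨
    { (ofTw hJ).trans (g.1.1.trans (ofTw hJ).symm) with
      map_smul' := fun l v => (ofTw hJ).injective (by
        show g.1.1 (ofTw hJ (l • v)) = ofTw hJ (l • (ofTw hJ).symm (g.1.1 (ofTw hJ v)))
        rw [ofTw_smul, ofTw_smul, map_add, map_smul, map_smul, g.2, LinearEquiv.apply_symm_apply]) },
    fun x => by
      show qfL hJ ((ofTw hJ).symm (g.1.1 (ofTw hJ x))) = qfL hJ x
      rw [qfL_apply, qfL_apply, LinearEquiv.apply_symm_apply, ← g.2, polar_oG, polar_oG]⟩ : oG (qfL hJ)))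
    ⟨fun g g' h => ?_, fun h => ?_⟩
  · refine Subtype.ext (Subtype.ext (LinearEquiv.ext fun v => ?_))
    have := LinearEquiv.congr_fun (congrArg Subtype.val h) ((ofTw hJ).symm v)
    exact (ofTw hJ).symm.injective this
  · refine ⟨⟨⟨(ofTw hJ).symm.trans ((h.1.restrictScalars F).trans (ofTw hJ)), fun x => ?_⟩, fun v => ?_⟩, ?_⟩
    · show Q (ofTw hJ (h.1 ((ofTw hJ).symm x))) = Q x
      rw [← qfL_im h2, h.2, qfL_im h2, LinearEquiv.apply_symm_apply]
    · show ofTw hJ (h.1 ((ofTw hJ).symm (J v))) = J (ofTw hJ (h.1 ((ofTw hJ).symm v)))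
      have hv : (ofTw hJ).symm (J v) = (⟨0, 1⟩ : QuadraticAlgebra F t 0) • (ofTw hJ).symm v :=
        (ofTw hJ).injective (by simp [ofTw_smul])
      rw [hv, map_smul, ofTw_smul]
      simp
    · exact Subtype.ext (LinearEquiv.ext fun v => rfl)

theorem card_oG_smul_sqForm {L : Type u} [Field L] {c : L} (hc : c ≠ 0) (m : ℕ) :
    Nat.card (oG (hyp (c • sqForm L) m)) = Nat.card (oG (hyp (sqForm L) m)) := by
  have e0 : Nat.card (oG (hyp (c • sqForm L) m)) = Nat.card (oG (c • hyp (sqForm L) m)) := by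
    refine Nat.card_congr (oCongr
      ((((LinearEquiv.smulOfUnit (Units.mk0 c⁻¹ (inv_ne_zero hc))).prodCongr (LinearEquiv.refl L _)).prodCongr
        (LinearEquiv.refl L _))) fun x => ?_).toEquiv
    show c * hyp (sqForm L) m ((c⁻¹ • x.1.1, x.1.2), x.2) = _
    rw [hyp_apply, hyp_apply, mul_add, Finset.mul_sum]
    simp [← mul_assoc, hc]
  rw [e0]
  refine Nat.card_congr (Equiv.subtypeEquivRight fun g => ?_)
  refine forall_congr' fun x => ?_
  rw [QuadraticMap.smul_apply, QuadraticMap.smul_apply]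
  exact ⟨fun h => smul_right_injective L hc h, fun h => congrArg _ h⟩

end Cfsg.Agent.OrthExt
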