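import Cfsg.Agent.OrthExt.Index
import Cfsg.Agent.DualCount.OrthTypes

/-!
Isometries of odd prime order commuting with no self-adjoint `J` with non-square `J²`.
-/

set_option autoImplicit false
set_option linter.unusedSectionVars false
set_option linter.style.haveILetI false

namespace Cfsg.Agent.OrthExt

open Module QuadraticMap Polynomial Cfsg.Agent.Classical Cfsg.Agent.Classical.Quad Cfsg.Agent.DualCount

universe u v w

variable {F : Type u} [Field F] {V : Type v} [AddCommGroup V] [Module F V] [FiniteDimensional F V]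
  {Q : QuadraticForm F V} {t : F}

/-- No self-adjoint structure commutes with `x`. -/
def NoSA (Q : QuadraticForm F V) (x : V → V) (t : F) : Prop :=
  ∀ J : V →ₗ[F] V, IsSA Q J t → ¬ ∀ v, x (J v) = J (x v)

variable [Fintype F]

/-- A Siegel transformation of order `p`. -/
theorem exists_siegel {p : ℕ} [Fact p.Prime] [CharP F p] (h2 : (2 : F) ≠ 0) (ht : ¬ IsSquare t)
    (hQ : (polarBilin Q).Nondegenerate) (hn : 3 ≤ finrank F V) :
    ∃ x : oG Q, x ^ p = 1 ∧ x ≠ 1 ∧ NoSA Q x.1 t := by
  obtain ⟨e, he0, he⟩ := exists_singular Q hn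
  obtain ⟨f, hf, hef⟩ := exists_hyp_pair hQ he0 he
  have hdim : finrank F V = 2 + finrank F (perpPair Q e f) := by
    rw [(splitPair he hf hef).finrank_eq, Module.finrank_prod, Module.finrank_prod, Module.finrank_self]
  obtain ⟨⟨w, hwm⟩, hw⟩ := exists_aniso (nondeg_restrictPair hQ he hf hef) (by omega)
  have hw' : Q w ≠ 0 := hw
  have hew : polar Q e w = 0 := (mem_perpPair.1 hwm).1
  have hk : ∀ k : ℕ, (sO he hew) ^ k = sO he (polar_perp_smul hew (k : F)) := by
    intro k
    induction k with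
    | zero =>
      rw [pow_zero, eq_comm, sO_congr he _ (by rw [polar_zero_right]) (show ((0 : ℕ) : F) • w = 0 by simp)]
      exact sO_zero he _
    | succ k ih =>
      rw [pow_succ, ih, sO_mul]
      exact sO_congr he _ _ (by push_cast; rw [add_smul, one_smul])
  have hsq : ∀ v, (sO he hew).1 ((sO he hew).1 v) = v + (2 * polar Q v w) • e + (-(2 * polar Q v e)) • w +
      (-(4 * Q w * polar Q v e)) • e := fun v => by
    rw [← oG_mul_apply, sO_mul, sO_apply, polar_add_right, map_add', polar_self']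
    match_scalars <;> ring
  refine ⟨sO he hew, ?_, fun h => ?_, fun J hJ hc => ?_⟩
  · rw [hk, sO_congr he _ (by rw [polar_zero_right]) (show ((p : ℕ) : F) • w = 0 by simp [CharP.cast_eq_zero])]
    exact sO_zero he _
  · have := LinearEquiv.congr_fun (congrArg Subtype.val h) w
    change (sO he hew).1 w = w at this
    rw [sO_apply, polar_comm Q w e, hew, polar_self'] at this
    simp at this
    rcases this with h' | h'
    · rcases h' with h' | h'
      · exact h2 h'
      · exact hw' h'
    · exact he0 h'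
  · obtain ⟨v, hv⟩ : ∃ v, polar Q v e = 1 := ⟨f, by rw [polar_comm, hef]⟩
    -- the map `(x - 1)²` has image the line of `e`
    have key : ∀ z, (sO he hew).1 ((sO he hew).1 z) - (2 : F) • (sO he hew).1 z + z =
        (-(2 * Q w * polar Q z e)) • e := fun z => by
      rw [hsq, sO_apply]
      match_scalars <;> ring
    have h1 := key (J v)
    rw [hc, hc, ← map_smul, ← map_sub, ← map_add, key, map_smul, hv] at h1
    have h3 : (-(2 * Q w * 1)) ≠ 0 := by simp [h2, hw']
    obtain ⟨a, ha⟩ : ∃ a : F, J e = a • e := ⟨(-(2 * Q w * 1))⁻¹ * (-(2 * Q w * polar Q (J v) e)), by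
      rw [mul_smul, ← h1, inv_smul_smul₀ h3]⟩
    refine ht ⟨a, ?_⟩
    have h4 := hJ.sq e
    rw [ha, map_smul, ha, smul_smul] at h4
    exact smul_left_injective F he0 h4.symm

/-- Extending an element of an embedded space. -/
theorem transfer {U : Type w} [AddCommGroup U] [Module F U] [FiniteDimensional F U]
    {Qu : QuadraticForm F U} (hQu : (polarBilin Qu).Nondegenerate) (h : Emb Qu Q) [Nontrivial U]
    {r : ℕ} (hr : 0 < r) (a : Module.End F U) (ha : ∀ x, Qu (a x) = Qu x) (har : a ^ r = 1)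
    (hfix : ∀ x, a x = x → x = 0) (hno : NoSA Qu a t) :
    ∃ x : oG Q, x ^ r = 1 ∧ x ≠ 1 ∧ NoSA Q x.1 t := by
  obtain ⟨e, he, heq⟩ := h
  have hep : ∀ u v, polar Q (e u) (e v) = polar Qu u v := fun u v => by simp only [polar, ← map_add, heq]
  let π : V →ₗ[F] U := (LinearMap.BilinForm.toDual (polarBilin Qu) hQu).symm.toLinearMap.comp
    (((polarBilin Q).compl₂ e))
  have hπ : ∀ x y, polar Qu (π x) y = polar Q x (e y) := fun x y =>
    LinearMap.BilinForm.apply_toDual_symm_apply (hB := hQu) ((polarBilin Q).compl₂ e x) y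
  have hπe : ∀ w, π (e w) = w := fun w => by
    refine sub_eq_zero.1 (Quad.eq_zero_of_polar hQu fun y => ?_)
    rw [polar_sub_left, hπ, hep, sub_self]
  let b : Module.End F V := LinearMap.id + e.comp ((a - LinearMap.id).comp π)
  have hbapp : ∀ x, b x = x + e (a (π x) - π x) := fun x => rfl
  have hbπ : ∀ x, π (b x) = a (π x) := fun x => by rw [hbapp, map_add, hπe]; abel
  have hbQ : ∀ x, Q (b x) = Q x := fun x => by
    have h1 := map_add' (Q := Qu) (π x) (a (π x) - π x)
    rw [add_sub_cancel, ha] at h1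
    rw [hbapp, map_add' (Q := Q), heq, ← hπ]
    linear_combination -h1
  have hbk : ∀ j : ℕ, ∀ x, (b ^ j) x = x + e ((a ^ j) (π x) - π x) := by
    intro j
    induction j with
    | zero => intro x; simp
    | succ j ih =>
      intro x
      rw [pow_succ, Module.End.mul_apply, ih, hbπ, pow_succ, Module.End.mul_apply, hbapp, add_assoc, ← map_add]
      congr 2
      abel
  have hbr : b ^ r = 1 := LinearMap.ext fun x => by rw [hbk, har]; simp
  let be : V ≃ₗ[F] V := LinearEquiv.ofLinear b (b ^ (r - 1))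
    (by rw [← Module.End.mul_eq_comp, ← pow_succ', Nat.sub_add_cancel hr, hbr]; rfl)
    (by rw [← Module.End.mul_eq_comp, ← pow_succ, Nat.sub_add_cancel hr, hbr]; rfl)
  let x : oG Q := ⟨be, hbQ⟩
  have hxk : ∀ (k : ℕ) v, (x ^ k).1 v = (b ^ k) v := by
    intro k
    induction k with
    | zero => intro v; simp
    | succ k ih => intro v; rw [pow_succ', oG_mul_apply, ih, pow_succ', Module.End.mul_apply]; rfl
  have hbe : ∀ u, b (e u) = e (a u) := fun u => by
    rw [hbapp, hπe, ← map_add, add_sub_cancel]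
  refine ⟨x, ext_oG fun v => by rw [hxk, hbr]; rfl, fun h1 => ?_, fun J hJ hc => ?_⟩
  · obtain ⟨u, hu⟩ := exists_ne (0 : U)
    have := LinearEquiv.congr_fun (congrArg Subtype.val h1) (e u)
    change b (e u) = e u at this
    rw [hbe] at this
    exact hu (hfix u (he this))
  · have hsurj : Function.Surjective (a - LinearMap.id : U →ₗ[F] U) :=
      LinearMap.injective_iff_surjective.1 ((injective_iff_map_eq_zero _).2 fun u hu =>
        hfix u (sub_eq_zero.1 hu))
    have hrange : ∀ u, ∃ w, J (e u) = e w := fun u => by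
      obtain ⟨u', rfl⟩ := hsurj u
      refine ⟨a (π (J (e u'))) - π (J (e u')), ?_⟩
      have h0 : e ((a - LinearMap.id : U →ₗ[F] U) u') = b (e u') - e u' := by
        rw [hbe, ← map_sub]; rfl
      rw [h0, map_sub, show J (b (e u')) = b (J (e u')) from (hc (e u')).symm, hbapp]
      abel
    let J' : U →ₗ[F] U := π.comp (J.comp e)
    have hJ' : ∀ u, e (J' u) = J (e u) := fun u => by
      obtain ⟨w, hw⟩ := hrange u
      show e (π (J (e u))) = _
      rw [hw, hπe]
    refine hno J' ⟨fun u v => ?_, fun u => he ?_⟩ fun u => he ?_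
    · rw [← hep, ← hep, hJ', hJ', hJ.sa]
    · rw [hJ', hJ', hJ.sq, map_smul]
    · rw [← hbe, hJ', hJ', ← hbe]
      exact hc (e u)

/-- Moving a block to coordinates. -/
theorem coord_block {U : Type w} [AddCommGroup U] [Module F U] [FiniteDimensional F U] {Qu : QuadraticForm F U}
    (hQu : (polarBilin Qu).Nondegenerate) {r l : ℕ} (hU : finrank F U = 2 * l) (a : Module.End F U)
    (ha : ∀ x, Qu (a x) = Qu x) (har : a ^ r = 1) (hfix : ∀ x, a x = x → x = 0) (hno : NoSA Qu a t) :
    ∃ (a' : Module.End F (Fin l ⊕ Fin l → F)) (Ql : QuadraticForm F (Fin l ⊕ Fin l → F)),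
      (polarBilin Ql).Nondegenerate ∧ (∀ x, Ql (a' x) = Ql x) ∧ a' ^ r = 1 ∧ (∀ x, a' x = x → x = 0) ∧
        NoSA Ql a' t := by
  obtain ⟨ψ⟩ : Nonempty ((Fin l ⊕ Fin l → F) ≃ₗ[F] U) := FiniteDimensional.nonempty_linearEquiv_of_finrank_eq (by
    rw [hU, Module.finrank_fintype_fun_eq_card, Fintype.card_sum, Fintype.card_fin, two_mul])
  let Ql : QuadraticForm F (Fin l ⊕ Fin l → F) := Qu.comp ψ.toLinearMap
  have hQl : ∀ x, Ql x = Qu (ψ x) := fun x => rfl
  have hp : ∀ x y, polar Ql x y = polar Qu (ψ x) (ψ y) := fun x y => by simp [polar, hQl]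
  refine ⟨ψ.symm.conj a, Ql, Iso.nondeg ⟨ψ.symm, fun x => by simp [hQl]⟩ hQu, fun x => ?_, ?_, fun x hx => ?_,
    fun J hJ hc => ?_⟩
  · simp [hQl, LinearEquiv.conj_apply, ha]
  · have hk : ∀ k : ℕ, ∀ x, (ψ.symm.conj a ^ k) x = ψ.symm ((a ^ k) (ψ x)) := by
      intro k
      induction k with
      | zero => intro x; simp
      | succ k ih =>
        intro x
        rw [pow_succ', Module.End.mul_apply, ih, pow_succ' a, Module.End.mul_apply]
        simp [LinearEquiv.conj_apply]
    refine LinearMap.ext fun x => ?_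
    rw [hk, har]
    simp
  · rw [← ψ.symm_apply_apply x, hfix (ψ x) (ψ.symm.injective (by simpa [LinearEquiv.conj_apply] using hx)),
      map_zero]
  · refine hno (ψ.toLinearMap.comp (J.comp ψ.symm.toLinearMap)) ⟨fun u v => ?_, fun u => ?_⟩ fun u => ?_
    · have := hJ.sa (ψ.symm u) (ψ.symm v)
      rw [hp, hp, ψ.apply_symm_apply, ψ.apply_symm_apply] at this
      exact this
    · simp [hJ.sq]
    · have := hc (ψ.symm u)
      simp [LinearEquiv.conj_apply] at this
      simpa using (congrArg ψ this)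

/-- A primitive element of order `r`. -/
theorem exists_zeta {r e : ℕ} [Fact r.Prime] (he : e = orderOf (Fintype.card F : ZMod r))
    (hrq : (Fintype.card F : ZMod r) ≠ 0) (K : Type w) [Field K] [Algebra F K] [Fintype K]
    (hK : finrank F K = e) :
    ∃ ζ : K, ζ ^ r = 1 ∧ ζ ≠ 1 ∧ Algebra.adjoin F {ζ} = ⊤ ∧
      (∀ m n : ℕ, ζ ^ m = ζ ^ n → (m : ZMod r) = n) ∧
      ∀ y : K, aeval y (minpoly F ζ) = 0 → ∃ i < e, ζ ^ Fintype.card F ^ i = y := by
  classical
  have hr : r.Prime := Fact.out
  set q := Fintype.card F with hqd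
  haveI : FiniteDimensional F K := Module.Finite.of_finite
  have hcard : Fintype.card K = q ^ e := by rw [Module.card_eq_pow_finrank (K := F), hK]
  have hq1 : 1 ≤ q := Fintype.card_pos
  have hdvd : r ∣ Nat.card Kˣ := by
    rw [Nat.card_units, Nat.card_eq_fintype_card, hcard, ← ZMod.natCast_eq_zero_iff,
      Nat.cast_sub (Nat.one_le_pow _ _ hq1), Nat.cast_pow, Nat.cast_one, he, pow_orderOf_eq_one, sub_self]
  obtain ⟨u, hu⟩ := exists_prime_orderOf_dvd_card' r hdvd
  set ζ : K := (u : K) with hζ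
  have hζn : ∀ m n : ℕ, ζ ^ m = ζ ^ n → (m : ZMod r) = n := fun m n h => by
    have h1 : u ^ m = u ^ n := Units.ext (by rw [Units.val_pow_eq_pow_val, Units.val_pow_eq_pow_val]; exact h)
    rw [pow_eq_pow_iff_modEq, hu] at h1
    exact (ZMod.natCast_eq_natCast_iff _ _ _).2 h1
  have hζr : ζ ^ r = 1 := by rw [hζ, ← Units.val_pow_eq_pow_val, ← hu, pow_orderOf_eq_one, Units.val_one]
  have hint : IsIntegral F ζ := IsIntegral.of_finite F ζ
  set f := minpoly F ζ with hf
  have hf0 : f ≠ 0 := minpoly.ne_zero hint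
  have hroot : ∀ i : ℕ, aeval (ζ ^ q ^ i) f = 0 := by
    intro i
    induction i with
    | zero => rw [pow_zero, pow_one]; exact minpoly.aeval F ζ
    | succ i ih =>
      have := congrArg (FiniteField.frobeniusAlgHom F K) ih
      rw [← Polynomial.aeval_algHom_apply, map_zero, FiniteField.coe_frobeniusAlgHom] at this
      simpa only [← hqd, ← pow_mul, ← pow_succ] using this
  let S : Finset K := (Finset.range e).image fun i => ζ ^ q ^ i
  have hS : S.card = e := by
    rw [Finset.card_image_of_injOn, Finset.card_range]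
    intro i hi j hj hij
    have h1 := hζn _ _ hij
    push_cast at h1
    exact pow_injOn_Iio_orderOf (show i ∈ Set.Iio _ from he ▸ Finset.mem_range.1 hi)
      (show j ∈ Set.Iio _ from he ▸ Finset.mem_range.1 hj) h1
  have hsub : ∀ T : Finset K, (∀ z ∈ T, aeval z f = 0) → T.card ≤ f.natDegree := fun T hT => by
    refine (Finset.card_le_card (t := (f.map (algebraMap F K)).roots.toFinset) fun z hz => ?_).trans
      ((Multiset.toFinset_card_le _).trans ((Polynomial.card_roots' _).trans Polynomial.natDegree_map_le))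
    rw [Multiset.mem_toFinset, Polynomial.mem_roots ((Polynomial.map_ne_zero_iff (algebraMap F K).injective).2 hf0),
      Polynomial.IsRoot, Polynomial.eval_map, ← Polynomial.aeval_def]
    exact hT z hz
  have hSroot : ∀ z ∈ S, aeval z f = 0 := fun z hz => by
    obtain ⟨i, -, rfl⟩ := Finset.mem_image.1 hz
    exact hroot i
  have hdeg : f.natDegree = e := le_antisymm ((minpoly.natDegree_le ζ).trans hK.le) (hS ▸ hsub S hSroot)
  refine ⟨ζ, hζr, fun h => ?_, ?_, hζn, fun y hy => ?_⟩
  · exact hr.ne_one (hu ▸ orderOf_eq_one_iff.2 (Units.ext h))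
  · rw [← IntermediateField.adjoin_simple_toSubalgebra_of_isAlgebraic (Algebra.IsAlgebraic.isAlgebraic ζ),
      (Field.primitive_element_iff_minpoly_natDegree_eq F ζ).2 (by rw [← hf, hdeg, hK]),
      IntermediateField.top_toSubalgebra]
  · by_contra hc
    have hy' : y ∉ S := fun hm => by
      obtain ⟨i, hi, rfl⟩ := Finset.mem_image.1 hm
      exact hc ⟨i, Finset.mem_range.1 hi, rfl⟩
    have := hsub (insert y S) fun z hz => by
      rcases Finset.mem_insert.1 hz with rfl | hz
      exacts [hy, hSroot z hz]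
    rw [Finset.card_insert_of_notMem hy', hS, hdeg] at this
    omega

/-- The trace pairing is non-degenerate. -/
theorem trace_sep (K : Type w) [Field K] [Algebra F K] [Fintype K] {x : K}
    (hx : ∀ y, Algebra.trace F K (x * y) = 0) : x = 0 := by
  haveI : FiniteDimensional F K := Module.Finite.of_finite
  exact (traceForm_nondegenerate F K).1 x fun y => by rw [Algebra.traceForm_apply]; exact hx y

/-- The block for odd order of `q`. -/
theorem exists_block_odd {r e : ℕ} [Fact r.Prime] (hr2 : r ≠ 2) (he : e = orderOf (Fintype.card F : ZMod r))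
    (hrq : (Fintype.card F : ZMod r) ≠ 0) (heo : Odd e) (ht : ¬ IsSquare t) :
    ∃ (a : Module.End F (Fin e ⊕ Fin e → F)) (Ql : QuadraticForm F (Fin e ⊕ Fin e → F)),
      (polarBilin Ql).Nondegenerate ∧ (∀ x, Ql (a x) = Ql x) ∧ a ^ r = 1 ∧ (∀ x, a x = x → x = 0) ∧
        NoSA Ql a t := by
  obtain ⟨p, hpc⟩ := CharP.exists F
  haveI : Fact p.Prime := ⟨CharP.char_is_prime F p⟩
  classical
  haveI : NeZero e := ⟨heo.pos.ne'⟩
  let K := FiniteField.Extension F p e
  haveI : Fintype K := Fintype.ofFinite K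
  have hr : r.Prime := Fact.out
  have hfK : finrank F K = e := FiniteField.finrank_extension F p e
  obtain ⟨ζ, hζr, hζ1, -, hζn, hconj⟩ := exists_zeta he hrq K hfK
  have hζ0 : ζ ≠ 0 := fun h => by rw [h, zero_pow hr.ne_zero] at hζr; exact zero_ne_one hζr
  let B : LinearMap.BilinForm F (K × K) :=
    ((LinearMap.mul F K).compr₂ (Algebra.trace F K)).compl₁₂ (LinearMap.fst F K K) (LinearMap.snd F K K)
  let Qu : QuadraticForm F (K × K) := LinearMap.BilinMap.toQuadraticMap B
  have hQu : ∀ z, Qu z = Algebra.trace F K (z.1 * z.2) := fun z => rfl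
  have hp : ∀ z z', polar Qu z z' = Algebra.trace F K (z.1 * z'.2) + Algebra.trace F K (z'.1 * z.2) := fun z z' =>
    LinearMap.BilinMap.polar_toQuadraticMap (B := B) z z'
  have hnd : (polarBilin Qu).Nondegenerate := nondeg_of fun z hz => by
    refine Prod.ext (trace_sep (F := F) K fun y => ?_) (trace_sep (F := F) K fun y => ?_)
    · simpa [hp] using hz (0, y)
    · rw [mul_comm]; simpa [hp] using hz (y, 0)
  let a : Module.End F (K × K) := LinearMap.prodMap (LinearMap.mulLeft F ζ) (LinearMap.mulLeft F ζ⁻¹)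
  have haz : ∀ z, a z = (ζ * z.1, ζ⁻¹ * z.2) := fun z => rfl
  have hak : ∀ (k : ℕ) z, (a ^ k) z = (ζ ^ k * z.1, ζ⁻¹ ^ k * z.2) := by
    intro k
    induction k with
    | zero => intro z; simp
    | succ k ih => intro z; rw [pow_succ', Module.End.mul_apply, ih, haz, pow_succ', pow_succ', mul_assoc, mul_assoc]
  refine coord_block (Qu := Qu) hnd (by rw [Module.finrank_prod, hfK, two_mul]) a (fun z => ?_) ?_ (fun z hz => ?_)
    fun J hJ hc => ?_
  · rw [hQu, hQu, haz, mul_mul_mul_comm, mul_inv_cancel₀ hζ0, one_mul]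
  · exact LinearMap.ext fun z => by rw [hak, inv_pow, hζr]; simp
  · rw [haz] at hz
    refine Prod.ext ?_ ?_
    · have h := congrArg Prod.fst hz
      have : (ζ - 1) * z.1 = 0 := by rw [sub_mul, one_mul, show ζ * z.1 = z.1 from h, sub_self]
      exact (mul_eq_zero.1 this).resolve_left (sub_ne_zero.2 hζ1)
    · have h := congrArg Prod.snd hz
      have : (ζ⁻¹ - 1) * z.2 = 0 := by rw [sub_mul, one_mul, show ζ⁻¹ * z.2 = z.2 from h, sub_self]
      exact (mul_eq_zero.1 this).resolve_left (sub_ne_zero.2 fun h => hζ1 (by simpa using congrArg (·⁻¹) h))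
  set f := minpoly F ζ with hf
  have hinv : aeval ζ⁻¹ f ≠ 0 := by
    intro h
    obtain ⟨i, hi, hiy⟩ := hconj _ h
    have h1 : ζ ^ (Fintype.card F ^ i + 1) = ζ ^ 0 := by rw [pow_succ, hiy, pow_zero, inv_mul_cancel₀ hζ0]
    have h2 := hζn _ _ h1
    push_cast at h2
    have h3 : e ∣ i * 2 := by
      rw [he]
      refine orderOf_dvd_of_pow_eq_one ?_
      rw [pow_mul, eq_neg_of_add_eq_zero_left h2, neg_one_sq]
    obtain rfl : i = 0 := Nat.eq_zero_of_dvd_of_lt (Nat.Coprime.dvd_of_dvd_mul_right (Nat.coprime_two_right.2 heo) h3) hi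
    rw [pow_zero, one_add_one_eq_two] at h2
    exact hr2 ((Nat.prime_dvd_prime_iff_eq hr Nat.prime_two).1 ((ZMod.natCast_eq_zero_iff 2 r).1 h2))
  have hpoly : ∀ (g : F[X]) z, aeval a g z = (aeval ζ g * z.1, aeval ζ⁻¹ g * z.2) := by
    intro g
    induction g using Polynomial.induction_on' with
    | add g g' hg hg' => intro z; simp [map_add, hg, hg', add_mul]
    | monomial k c =>
      intro z
      rw [aeval_monomial, aeval_monomial, aeval_monomial, Module.End.mul_apply, hak,
        Module.algebraMap_end_apply, Prod.smul_mk, Algebra.smul_def, Algebra.smul_def, mul_assoc, mul_assoc]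
  have hcomm : Commute (aeval a f) J := by
    have h1 : Commute a J := LinearMap.ext hc
    exact Commute.symm (Algebra.commute_of_mem_adjoin_singleton_of_commute (aeval_mem_adjoin_singleton F a) h1.symm)
  have hker : ∀ x : K, (J (x, 0)).2 = 0 := fun x => by
    have h1 := LinearMap.congr_fun hcomm (x, 0)
    rw [Module.End.mul_apply, Module.End.mul_apply, hpoly, hpoly, hf, minpoly.aeval, zero_mul, mul_zero] at h1
    have h3 : aeval ζ⁻¹ f * (J (x, 0)).2 = 0 := by
      have := congrArg Prod.snd h1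
      simp only [zero_mul, Prod.mk_zero_zero, map_zero, Prod.snd_zero] at this
      exact this
    exact (mul_eq_zero.1 h3).resolve_left hinv
  let J₁ : K →ₗ[F] K := (LinearMap.fst F K K).comp (J.comp (LinearMap.inl F K K))
  have hsq : J₁ ∘ₗ J₁ = t • LinearMap.id := LinearMap.ext fun x => by
    have hx : ((J (x, 0)).1, (0 : K)) = J (x, 0) := Prod.ext rfl (hker x).symm
    show (J ((J (x, 0)).1, 0)).1 = t • x
    rw [hx, hJ.sq]
    rfl
  have hdet := congrArg LinearMap.det hsq
  rw [LinearMap.det_comp, LinearMap.det_smul, LinearMap.det_id, mul_one, hfK] at hdet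
  obtain ⟨k, hk⟩ := id heo
  have ht0 : t ≠ 0 := fun h => ht (h ▸ IsSquare.zero)
  refine ht ⟨LinearMap.det J₁ / t ^ k, ?_⟩
  replace hdet : LinearMap.det J₁ * LinearMap.det J₁ = t ^ (2 * k + 1) := hdet.trans (congrArg (t ^ ·) hk)
  field_simp
  linear_combination -hdet

/-- The block for order of `q` twice an odd number. -/
theorem exists_block_even {r j : ℕ} [Fact r.Prime] (he : 2 * j = orderOf (Fintype.card F : ZMod r))
    (hrq : (Fintype.card F : ZMod r) ≠ 0) (hjo : Odd j) (h2 : (2 : F) ≠ 0) (ht : ¬ IsSquare t) :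
    ∃ (a : Module.End F (Fin j ⊕ Fin j → F)) (Ql : QuadraticForm F (Fin j ⊕ Fin j → F)),
      (polarBilin Ql).Nondegenerate ∧ (∀ x, Ql (a x) = Ql x) ∧ a ^ r = 1 ∧ (∀ x, a x = x → x = 0) ∧
        NoSA Ql a t := by
  obtain ⟨p, hpc⟩ := CharP.exists F
  haveI : Fact p.Prime := ⟨CharP.char_is_prime F p⟩
  classical
  have hj0 := hjo.pos
  haveI : NeZero (2 * j) := ⟨by omega⟩
  let K := FiniteField.Extension F p (2 * j)
  haveI : Fintype K := Fintype.ofFinite K
  have hr : r.Prime := Fact.out
  set q := Fintype.card F with hq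
  have hfK : finrank F K = 2 * j := FiniteField.finrank_extension F p (2 * j)
  obtain ⟨ζ, hζr, hζ1, hadj, hζn, -⟩ := exists_zeta he hrq K hfK
  have hqj : (q : ZMod r) ^ j = -1 := by
    have h1 : (q : ZMod r) ^ j * (q : ZMod r) ^ j = 1 := by rw [← pow_add, ← two_mul, he, pow_orderOf_eq_one]
    refine (mul_self_eq_one_iff.1 h1).resolve_left fun h => ?_
    have := Nat.le_of_dvd hj0 (he ▸ orderOf_dvd_of_pow_eq_one h)
    omega
  let σ : K →ₐ[F] K := FiniteField.frobeniusAlgHom F K ^ j
  have hσ : ∀ x, σ x = x ^ q ^ j := by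
    have : ∀ (n : ℕ) (x : K), (FiniteField.frobeniusAlgHom F K ^ n) x = x ^ q ^ n := by
      intro n
      induction n with
      | zero => intro x; simp
      | succ n ih =>
        intro x
        rw [pow_succ', AlgHom.mul_apply, ih, FiniteField.coe_frobeniusAlgHom]
        simp only [← pow_mul, ← pow_succ]
        rfl
    exact this j
  have hcard : Fintype.card K = q ^ (2 * j) := by rw [Module.card_eq_pow_finrank (K := F), hfK]
  have hσσ : ∀ x, σ (σ x) = x := fun x => by
    rw [hσ, hσ, ← pow_mul, ← pow_add, ← two_mul, ← hcard, FiniteField.pow_card]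
  let σe : K ≃ₐ[F] K := AlgEquiv.ofBijective σ (Function.Involutive.bijective hσσ)
  have htr : ∀ x, Algebra.trace F K (σ x) = Algebra.trace F K x := fun x =>
    Algebra.trace_eq_of_algEquiv σe x
  have hσζ : σ ζ * ζ = 1 := by
    have hdr : r ∣ q ^ j + 1 := by
      rw [← ZMod.natCast_eq_zero_iff]
      push_cast
      rw [hqj, neg_add_cancel]
    obtain ⟨c, hc⟩ := hdr
    rw [hσ, ← pow_succ, hc, pow_mul, hζr, one_pow]
  let B : LinearMap.BilinForm F K := ((LinearMap.mul F K).compr₂ (Algebra.trace F K)).compl₂ σ.toLinearMap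
  let Qu : QuadraticForm F K := LinearMap.BilinMap.toQuadraticMap B
  have hQu : ∀ z, Qu z = Algebra.trace F K (z * σ z) := fun z => rfl
  have hp : ∀ z z', polar Qu z z' = 2 * Algebra.trace F K (z * σ z') := fun z z' => by
    rw [show polar Qu z z' = Algebra.trace F K (z * σ z') + Algebra.trace F K (z' * σ z) from
      LinearMap.BilinMap.polar_toQuadraticMap (B := B) z z', ← htr (z' * σ z), map_mul σ, hσσ, mul_comm (σ z') z]
    ring
  have hnd : (polarBilin Qu).Nondegenerate := nondeg_of fun z hz => trace_sep (F := F) K fun y => by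
    have := hz (σ y)
    rw [hp, hσσ] at this
    exact (mul_eq_zero.1 this).resolve_left h2
  let a : Module.End F K := LinearMap.mulLeft F ζ
  refine coord_block (Qu := Qu) hnd hfK a (fun z => ?_) ?_ (fun z hz => ?_) fun J hJ hc => ?_
  · rw [hQu, hQu, LinearMap.mulLeft_apply, map_mul σ,
      show ζ * z * (σ ζ * σ z) = z * σ z by linear_combination (z * σ z) * hσζ]
  · rw [LinearMap.pow_mulLeft, hζr]
    exact LinearMap.mulLeft_one _ _
  · have : (ζ - 1) * z = 0 := by rw [sub_mul, one_mul, show ζ * z = z from hz, sub_self]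
    exact (mul_eq_zero.1 this).resolve_left (sub_ne_zero.2 hζ1)
  have hlin : ∀ c x : K, J (c * x) = c * J x := fun c => by
    have hc' : c ∈ Algebra.adjoin F {ζ} := hadj ▸ Algebra.mem_top
    induction hc' using Algebra.adjoin_induction with
    | mem y hy => intro x; rw [Set.mem_singleton_iff.1 hy]; exact (hc x).symm
    | algebraMap y => intro x; rw [← Algebra.smul_def, ← Algebra.smul_def, map_smul]
    | add y z _ _ hy hz => intro x; rw [add_mul, add_mul, map_add, hy, hz]
    | mul y z _ _ hy hz => intro x; rw [mul_assoc, mul_assoc, hy, hz]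
  set α := J 1 with hα
  have hJx : ∀ x, J x = x * α := fun x => by rw [hα, ← hlin, mul_one]
  have hα2 : α * α = algebraMap F K t := by
    rw [← hJx, hα, hJ.sq, Algebra.algebraMap_eq_smul_one]
  have hσα : σ α = α := by
    refine sub_eq_zero.1 (trace_sep (F := F) K fun y => ?_)
    have h := hJ.sa y 1
    rw [hp, hp, hJx, hJx, one_mul, map_one, mul_one] at h
    have h' := mul_left_cancel₀ h2 h
    rw [sub_mul, map_sub, mul_comm (σ α), mul_comm α, h', sub_self]
  have ht0 : t ≠ 0 := fun h => ht (h ▸ IsSquare.zero)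
  have hodd : ringChar F ≠ 2 := fun h => h2 (by
    have : CharP F 2 := h ▸ ringChar.charP F
    exact CharTwo.two_eq_zero)
  have htq : t ^ (q / 2) = -1 := by
    have h1 : t ^ (q / 2) * t ^ (q / 2) = 1 := by
      rw [← pow_add]
      have := FiniteField.odd_card_of_char_ne_two hodd
      rw [← hq] at this
      rw [show q / 2 + q / 2 = q - 1 by omega]
      exact FiniteField.pow_card_sub_one_eq_one t ht0
    exact (mul_self_eq_one_iff.1 h1).resolve_left fun h => ht ((FiniteField.isSquare_iff hodd ht0).2 h)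
  have hαq : α ^ q = -α := by
    have hqo := FiniteField.odd_card_of_char_ne_two hodd
    rw [← hq] at hqo
    calc α ^ q = (α * α) ^ (q / 2) * α := by
            rw [← pow_two, ← pow_mul, ← pow_succ, show 2 * (q / 2) + 1 = q by omega]
      _ = -α := by rw [hα2, ← map_pow, htq, map_neg, map_one, neg_one_mul]
  have hqo' : Odd q := Nat.odd_iff.2 (FiniteField.odd_card_of_char_ne_two hodd)
  have hn : ∀ n : ℕ, α ^ q ^ n = (-1) ^ n * α := by
    intro n
    induction n with
    | zero => simp
    | succ n ih =>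
      rw [pow_succ, pow_mul, ih, mul_pow, hαq, ← pow_mul, mul_comm n q, pow_mul, hqo'.neg_one_pow, pow_succ]
      ring
  rw [hσ, hn, hjo.neg_one_pow, neg_one_mul] at hσα
  have hα0 : α ≠ 0 := fun h => ht0 ((algebraMap F K).injective (by rw [← hα2, h, map_zero, mul_zero]))
  have h2K : (2 : K) ≠ 0 := by
    rw [← map_ofNat (algebraMap F K) 2]
    exact fun h => h2 ((algebraMap F K).injective (h.trans (map_zero _).symm))
  exact mul_ne_zero h2K hα0 (by linear_combination -hσα)

/-- An element of order `r` commuting with no self-adjoint structure. -/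
theorem exists_noSA {d : ℕ} {plus : Prop} (hT : IsType Q d plus) (hd4 : 4 ≤ d) (h2 : (2 : F) ≠ 0)
    (ht : ¬ IsSquare t) (hQ : (polarBilin Q).Nondegenerate) (hd : finrank F V = 2 * d) {J : V →ₗ[F] V}
    (hJ : IsSA Q J t) {r : ℕ} [Fact r.Prime] (hr2 : r ≠ 2) (hr : r * Nat.card (centJ Q J) ∣ Nat.card (oG Q)) :
    ∃ x : oG Q, x ^ r = 1 ∧ x ≠ 1 ∧ NoSA Q x.1 t := by
  obtain ⟨p, hpc⟩ := CharP.exists F
  haveI : Fact p.Prime := ⟨CharP.char_is_prime F p⟩
  have hr' : r.Prime := Fact.out
  by_cases hrp : r = p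
  · subst hrp
    exact exists_siegel h2 ht hQ (by omega)
  have hrq : (Fintype.card F : ZMod r) ≠ 0 := by
    intro h
    obtain ⟨n, hp, hn⟩ := FiniteField.card F p
    rw [ZMod.natCast_eq_zero_iff, hn] at h
    exact hrp ((Nat.prime_dvd_prime_iff_eq hr' hp).1 (hr'.dvd_of_dvd_pow h))
  obtain ⟨n, hno, hn⟩ := exists_odd_pow hT h2 ht hQ hd (by omega) hJ hrq hr
  obtain ⟨e, he⟩ : ∃ e, e = orderOf (Fintype.card F : ZMod r) := ⟨_, rfl⟩
  have hen : e ∣ 2 * n := he ▸ orderOf_dvd_of_pow_eq_one hn
  obtain ⟨hbo, hbe⟩ := order_bound hT (by omega) hr2 hrq ((dvd_mul_right r _).trans hr) he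
  have hfin : ∀ l, 1 ≤ l → ∀ (a : Module.End F (Fin l ⊕ Fin l → F)) (Ql : QuadraticForm F (Fin l ⊕ Fin l → F)),
      (polarBilin Ql).Nondegenerate → (∀ x, Ql (a x) = Ql x) → a ^ r = 1 → (∀ x, a x = x → x = 0) →
      NoSA Ql a t → Emb Ql Q → ∃ x : oG Q, x ^ r = 1 ∧ x ≠ 1 ∧ NoSA Q x.1 t := by
    intro l hl a Ql hQl ha har hfix hn' hE
    haveI : Nontrivial (Fin l ⊕ Fin l → F) :=
      Module.nontrivial_of_finrank_pos (R := F) (by
        rw [Module.finrank_fintype_fun_eq_card, Fintype.card_sum, Fintype.card_fin]; omega)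
    exact transfer hQl hE hr'.pos a ha har hfix hn'
  rcases Nat.even_or_odd e with ⟨j, hj⟩ | heo
  · have hjo : Odd j := by
      rw [hj, ← two_mul] at hen
      exact hno.of_dvd_nat (Nat.dvd_of_mul_dvd_mul_left two_pos hen)
    have hj2 : 2 * j = orderOf (Fintype.card F : ZMod r) := by rw [← he, hj, two_mul]
    obtain ⟨a, Ql, hQl, ha, har, hfix, hn'⟩ := exists_block_even hj2 hrq hjo h2 ht
    refine hfin j hjo.pos a Ql hQl ha har hfix hn' ?_
    obtain ⟨hbp, hbm⟩ := hbe j (by omega)
    rcases block_cases hr' hr2 hrq a Ql hQl ha har hfix with ⟨hs, -⟩ | ⟨-, -, h⟩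
    · exfalso
      have := Nat.le_of_dvd hjo.pos (hj2 ▸ orderOf_dvd_of_pow_eq_one hs)
      have := hjo.pos
      omega
    rcases hT with ⟨hp', hi⟩ | ⟨hp', -, c, c', hcc, hi⟩
    · obtain ⟨ζ, hζ⟩ := exists_rootfree (F := F)
      exact (((h _ _ (rootfree_aniso hζ)).trans (emb_minus_plus _ _ _)).trans
        (emb_hyp_le _ (by have := hbp hp'; omega))).trans (Emb.of_iso hi)
    · exact ((h c c' hcc).trans (emb_hyp_le _ (by have := hbm hp'; omega))).trans (Emb.of_iso hi)
  · obtain ⟨a, Ql, hQl, ha, har, hfix, hn'⟩ := exists_block_odd (e := e) hr2 he hrq heo ht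
    refine hfin e heo.pos a Ql hQl ha har hfix hn' ?_
    rcases block_cases hr' hr2 hrq a Ql hQl ha har hfix with ⟨-, h⟩ | ⟨hs, -, -⟩
    · rcases hT with ⟨hp', hi⟩ | ⟨hp', -, c, c', hcc, hi⟩
      · exact (h.trans (emb_hyp_le _ ((hbo heo).1 hp'))).trans (Emb.of_iso hi)
      · exact ((h.trans ((emb_zeroForm _).hyp e)).trans (emb_hyp_le _ (by have := (hbo heo).2 hp'; omega))).trans
          (Emb.of_iso hi)
    · rw [he, pow_orderOf_eq_one] at hs
      exact absurd hs (two_ne_zero_zmod hr' hr2)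

end Cfsg.Agent.OrthExt
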