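import Cfsg.Agent.OrthExt.Conj

/-!
The primes dividing the index of the centraliser of a self-adjoint structure.
-/

set_option autoImplicit false
set_option linter.unusedSectionVars false
set_option linter.style.haveILetI false

namespace Cfsg.Agent.OrthExt

open Module QuadraticMap Cfsg.Agent.Classical Cfsg.Agent.Classical.Quad

universe u v

theorem prod_parity (f : ℕ → ℕ) (m : ℕ) :
    ∏ i ∈ Finset.range (2 * m), f i =
      (∏ i ∈ Finset.range m, f (2 * i)) * ∏ i ∈ Finset.range m, f (2 * i + 1) := by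
  induction m with
  | zero => simp
  | succ m ih =>
    rw [show 2 * (m + 1) = 2 * m + 1 + 1 by ring, Finset.prod_range_succ, Finset.prod_range_succ, ih,
      Finset.prod_range_succ, Finset.prod_range_succ]
    ring

variable {F : Type u} [Field F] [Fintype F] {V : Type v} [AddCommGroup V] [Module F V] [FiniteDimensional F V]
  {Q : QuadraticForm F V} {J : V →ₗ[F] V} {t : F}

/-- The type of a space: hyperbolic or elliptic. -/
def IsType (Q : QuadraticForm F V) (d : ℕ) (plus : Prop) : Prop :=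
  (plus ∧ Iso (hyp (zeroForm F) d) Q) ∨ (¬ plus ∧ 1 ≤ d ∧ ∃ a b : F,
    (∀ z₁ z₂ : F, z₁ ^ 2 + a * z₁ * z₂ + b * z₂ ^ 2 = 0 → z₁ = 0 ∧ z₂ = 0) ∧ Iso (hyp (binForm a b) (d - 1)) Q)

theorem IsType.singular_iff {d : ℕ} {plus : Prop} (h : IsType Q d plus) :
    plus ↔ ∃ W : Submodule F V, (∀ w ∈ W, Q w = 0) ∧ finrank F W = d := by
  rcases h with ⟨hp, e, he⟩ | ⟨hp, hd, a, b, hab, e, he⟩
  · refine iff_of_true hp ⟨(stdSing (Fin 0 → F) d).map e.toLinearMap, ?_, ?_⟩
    · rintro _ ⟨x, hx, rfl⟩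
      rw [LinearEquiv.coe_coe, he]
      exact stdSing_singular _ d x hx
    · rw [LinearEquiv.finrank_map_eq, finrank_stdSing]
  · refine iff_of_false hp ?_
    rintro ⟨W, hW, hWd⟩
    have := aniso_index (nondeg_binForm hab) (fun _ h => by_contra fun hz => binForm_ne_zero hab hz h) (d - 1)
      (W.map e.symm.toLinearMap) (by
        rintro _ ⟨x, hx, rfl⟩
        rw [← he, LinearEquiv.coe_coe, LinearEquiv.apply_symm_apply, hW x hx])
    rw [LinearEquiv.finrank_map_eq, hWd] at this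
    omega

theorem card_oG_of_type {d : ℕ} {plus : Prop} (h : IsType Q (d + 1) plus) :
    ∃ s : ℕ, (plus ∧ s = Fintype.card F ^ (d + 1) - 1 ∨ ¬ plus ∧ s = Fintype.card F ^ (d + 1) + 1) ∧
      Nat.card (oG Q) = 2 * Fintype.card F ^ ((d + 1) * d) * s *
        ∏ i ∈ Finset.range d, (Fintype.card F ^ (2 * (i + 1)) - 1) := by
  rcases h with ⟨hp, e, he⟩ | ⟨hp, hd, a, b, hab, e, he⟩
  · exact ⟨_, Or.inl ⟨hp, rfl⟩, (Nat.card_congr (oCongr e he).toEquiv).symm.trans (card_oG_plus rfl d)⟩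
  · exact ⟨_, Or.inr ⟨hp, rfl⟩, (Nat.card_congr (oCongr e he).toEquiv).symm.trans (card_oG_minus hab rfl d)⟩

/-- A prime dividing the index of the centraliser: the order of `q` is not divisible by four. -/
theorem exists_odd_pow {d : ℕ} {plus : Prop} (hT : IsType Q d plus) (h2 : (2 : F) ≠ 0) (ht : ¬ IsSquare t)
    (hQ : (polarBilin Q).Nondegenerate) (hd : finrank F V = 2 * d) (hd1 : 1 ≤ d) (hJ : IsSA Q J t) {r : ℕ}
    [Fact r.Prime] (hrq : (Fintype.card F : ZMod r) ≠ 0) (hr : r * Nat.card (centJ Q J) ∣ Nat.card (oG Q)) :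
    ∃ n : ℕ, Odd n ∧ (Fintype.card F : ZMod r) ^ (2 * n) = 1 := by
  haveI := fact_nonsquare ht
  haveI : Finite (QuadraticAlgebra F t 0) := Module.finite_of_finite F
  haveI := Fintype.ofFinite (QuadraticAlgebra F t 0)
  haveI : Finite V := Module.finite_of_finite F
  haveI : Finite (V ≃ₗ[F] V) := Finite.of_injective _ DFunLike.coe_injective
  have hr' : r.Prime := Fact.out
  have hc2 : Fintype.card (QuadraticAlgebra F t 0) = Fintype.card F ^ 2 := by
    rw [Module.card_eq_pow_finrank (K := F), QuadraticAlgebra.finrank_eq_two]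
  have h2L : (2 : QuadraticAlgebra F t 0) ≠ 0 := fun h => h2 (congrArg QuadraticAlgebra.re h)
  set q := Fintype.card F with hq
  have hpos : 0 < Nat.card (centJ Q J) := Nat.card_pos
  have hq1 : 1 ≤ q := Fintype.card_pos
  have hfac : ∀ i : ℕ, r ∣ q ^ (2 * (2 * i + 1)) - 1 → ∃ n : ℕ, Odd n ∧ (q : ZMod r) ^ (2 * n) = 1 := by
    intro i hi
    refine ⟨2 * i + 1, odd_two_mul_add_one i, ?_⟩
    have h0 := (ZMod.natCast_eq_zero_iff _ r).2 hi
    rw [Nat.cast_sub (Nat.one_le_pow _ _ hq1), sub_eq_zero] at h0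
    simpa using h0
  have hrq' : ¬ r ∣ q := fun h => hrq ((ZMod.natCast_eq_zero_iff _ _).2 h)
  obtain ⟨d, rfl⟩ := Nat.exists_eq_add_of_le' hd1
  obtain ⟨s, hs, hcard⟩ := card_oG_of_type hT
  rcases Nat.even_or_odd (d + 1) with ⟨m, hm⟩ | ⟨m, hm⟩
  · obtain ⟨m, rfl⟩ : ∃ k, m = k + 1 := ⟨m - 1, by omega⟩
    obtain rfl : d = 2 * m + 1 := by omega
    have hqq : (q ^ 2) ^ (m + 1) = q ^ (2 * m + 1 + 1) := by rw [← pow_mul]; ring_nf
    have hC : Nat.card (centJ Q J) = 2 * q ^ (2 * ((m + 1) * m)) * s * ∏ i ∈ Finset.range m, (q ^ (2 * (2 * i + 1 + 1)) - 1) := by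
      rw [card_centJ h2 hJ]
      have hp : ∀ i, (q ^ 2) ^ (2 * (i + 1)) = q ^ (2 * (2 * i + 1 + 1)) := fun i => by rw [← pow_mul]; ring_nf
      rcases (qfL_cases h2 ht hQ hJ hd).1 (m + 1) (by omega) with ⟨h, W, hW, hWd⟩ | ⟨-, h, hb⟩
      · obtain ⟨e, he⟩ := h
        rw [← Nat.card_congr (oCongr e he).toEquiv, card_oG_plus hc2 m, hqq,
          (hs.resolve_right fun h => h.1 (hT.singular_iff.2 ⟨W, hW, hWd⟩)).2, ← pow_mul]
        simp only [hp]
        rfl
      · obtain ⟨ζ, hζ⟩ := exists_rootfree (F := QuadraticAlgebra F t 0)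
        obtain ⟨e, he⟩ : Iso (hyp (binForm 1 ζ) m) (qfL hJ) := h _ _ (rootfree_aniso hζ)
        rw [← Nat.card_congr (oCongr e he).toEquiv, card_oG_minus (rootfree_aniso hζ) hc2 m, hqq,
          (hs.resolve_left fun h => by obtain ⟨W, hW, hWd⟩ := hT.singular_iff.1 h.1; exact (hb W hW).ne hWd).2,
          ← pow_mul]
        simp only [hp]
        rfl
    have key : r ∣ q ^ ((2 * m + 1 + 1) * (2 * m + 1) - 2 * ((m + 1) * m)) *
        ∏ i ∈ Finset.range (m + 1), (q ^ (2 * (2 * i + 1)) - 1) := by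
      refine Nat.dvd_of_mul_dvd_mul_right hpos ?_
      refine hr.trans (dvd_of_eq ?_)
      rw [hcard, hC, Finset.prod_range_succ, prod_parity, Finset.prod_range_succ]
      have e : q ^ ((2 * m + 1 + 1) * (2 * m + 1)) =
          q ^ ((2 * m + 1 + 1) * (2 * m + 1) - 2 * ((m + 1) * m)) * q ^ (2 * ((m + 1) * m)) := by
        rw [← pow_add, Nat.sub_add_cancel (by nlinarith)]
      rw [e]
      ring
    obtain ⟨i, -, hi⟩ := (Prime.dvd_finsetProd_iff hr'.prime _).1
      ((hr'.dvd_mul.1 key).resolve_left fun h => hrq' (hr'.dvd_of_dvd_pow h))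
    exact hfac i hi
  · obtain rfl : d = 2 * m := by omega
    obtain ⟨c, hc, h, -⟩ := (qfL_cases h2 ht hQ hJ hd).2 m rfl
    obtain ⟨e, he⟩ := h
    have hC : Nat.card (centJ Q J) = 2 * q ^ (2 * m ^ 2) * ∏ i ∈ Finset.range m, (q ^ (2 * (2 * i + 1 + 1)) - 1) := by
      rw [card_centJ h2 hJ, ← Nat.card_congr (oCongr e he).toEquiv, card_oG_smul_sqForm hc, card_oG_odd hc2 h2L m,
        ← pow_mul]
      simp only [← pow_mul]
      refine congrArg₂ _ rfl (Finset.prod_congr rfl fun i _ => ?_)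
      ring_nf
    have key : r ∣ q ^ ((2 * m + 1) * (2 * m) - 2 * m ^ 2) * s *
        ∏ i ∈ Finset.range m, (q ^ (2 * (2 * i + 1)) - 1) := by
      refine Nat.dvd_of_mul_dvd_mul_right hpos ?_
      refine hr.trans (dvd_of_eq ?_)
      rw [hcard, hC, prod_parity]
      have e' : q ^ ((2 * m + 1) * (2 * m)) = q ^ ((2 * m + 1) * (2 * m) - 2 * m ^ 2) * q ^ (2 * m ^ 2) := by
        rw [← pow_add, Nat.sub_add_cancel (by nlinarith)]
      rw [e']
      ring
    rcases hr'.dvd_mul.1 key with h | h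
    · have hsd := (hr'.dvd_mul.1 h).resolve_left fun h => hrq' (hr'.dvd_of_dvd_pow h)
      refine ⟨2 * m + 1, odd_two_mul_add_one m, ?_⟩
      have h0 := (ZMod.natCast_eq_zero_iff _ r).2 hsd
      rcases hs with ⟨-, rfl⟩ | ⟨-, rfl⟩
      · rw [Nat.cast_sub (Nat.one_le_pow _ _ hq1), sub_eq_zero] at h0
        push_cast at h0
        rw [mul_comm, pow_mul, h0, one_pow]
      · push_cast at h0
        rw [mul_comm, pow_mul, eq_neg_of_add_eq_zero_left h0, neg_one_sq]
    · obtain ⟨i, -, hi⟩ := (Prime.dvd_finsetProd_iff hr'.prime _).1 h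
      exact hfac i hi

/-- The order of `q` is bounded by a divisibility of the isometry group. -/
theorem order_bound {d : ℕ} {plus : Prop} (hT : IsType Q d plus) (hd1 : 1 ≤ d) {r : ℕ}
    [Fact r.Prime] (hr2 : r ≠ 2) (hrq : (Fintype.card F : ZMod r) ≠ 0) (hr : r ∣ Nat.card (oG Q)) {e : ℕ}
    (he : e = orderOf (Fintype.card F : ZMod r)) :
    (Odd e → (plus → e ≤ d) ∧ (¬ plus → e + 1 ≤ d)) ∧
      ∀ j, e = 2 * j → (plus → j + 1 ≤ d) ∧ (¬ plus → j ≤ d) := by
  have hr' : r.Prime := Fact.out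
  obtain ⟨d, rfl⟩ := Nat.exists_eq_add_of_le' hd1
  obtain ⟨s, hs, hcard⟩ := card_oG_of_type hT
  set q := Fintype.card F with hq
  have hrq' : ¬ r ∣ q := fun h => hrq ((ZMod.natCast_eq_zero_iff _ _).2 h)
  have hq1 : 1 ≤ q := Fintype.card_pos
  have hdvd : ∀ n : ℕ, (q : ZMod r) ^ n = 1 → e ∣ n := fun n h => he ▸ orderOf_dvd_of_pow_eq_one h
  have hone : ∀ i : ℕ, r ∣ q ^ i - 1 → e ∣ i := fun i hi => by
    have h0 := (ZMod.natCast_eq_zero_iff _ r).2 hi
    rw [Nat.cast_sub (Nat.one_le_pow _ _ hq1), sub_eq_zero] at h0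
    exact hdvd _ (by simpa using h0)
  rw [hcard] at hr
  have key : (∃ i < d, e ∣ 2 * (i + 1)) ∨ (plus ∧ e ∣ d + 1) ∨ (¬ plus ∧ (q : ZMod r) ^ (d + 1) = -1) := by
    rcases hr'.dvd_mul.1 hr with h | h
    · rcases hr'.dvd_mul.1 h with h | h
      · rcases hr'.dvd_mul.1 h with h | h
        · exact absurd ((Nat.prime_dvd_prime_iff_eq hr' Nat.prime_two).1 h) hr2
        · exact absurd (hr'.dvd_of_dvd_pow h) hrq'
      · rcases hs with ⟨hp, rfl⟩ | ⟨hp, rfl⟩
        · exact Or.inr (Or.inl ⟨hp, hone _ h⟩)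
        · refine Or.inr (Or.inr ⟨hp, ?_⟩)
          have h0 := (ZMod.natCast_eq_zero_iff _ r).2 h
          push_cast at h0
          exact eq_neg_of_add_eq_zero_left h0
    · obtain ⟨i, hi, hri⟩ := (Prime.dvd_finsetProd_iff hr'.prime _).1 h
      exact Or.inl ⟨i, Finset.mem_range.1 hi, hone _ hri⟩
  refine ⟨fun ho => ?_, fun j hj => ?_⟩
  · rcases key with ⟨i, hi, h⟩ | ⟨hp, h⟩ | ⟨hp, h⟩
    · have := Nat.le_of_dvd (by omega) ((Nat.coprime_two_right.2 ho).dvd_of_dvd_mul_left h)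
      exact ⟨fun _ => by omega, fun _ => by omega⟩
    · exact ⟨fun _ => Nat.le_of_dvd (by omega) h, fun hp' => absurd hp hp'⟩
    · exfalso
      have h1 : (q : ZMod r) ^ ((d + 1) * e) = 1 := by
        rw [mul_comm, pow_mul, he, pow_orderOf_eq_one, one_pow]
      rw [pow_mul, h, ho.neg_one_pow] at h1
      haveI : Fact (2 < r) := ⟨by have := hr'.two_le; omega⟩
      exact ZMod.neg_one_ne_one h1
  · subst hj
    rcases key with ⟨i, hi, h⟩ | ⟨hp, h⟩ | ⟨hp, h⟩
    · have := Nat.le_of_dvd (by omega) h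
      exact ⟨fun _ => by omega, fun _ => by omega⟩
    · have := Nat.le_of_dvd (by omega) h
      exact ⟨fun _ => by omega, fun hp' => absurd hp hp'⟩
    · have := Nat.le_of_dvd (by omega) (hdvd (2 * (d + 1)) (by rw [mul_comm, pow_mul, h, neg_one_sq]))
      exact ⟨fun hp' => absurd hp' hp, fun _ => by omega⟩

end Cfsg.Agent.OrthExt
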