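import Cfsg.Agent.OrthExt.Conj
import Cfsg.Agent.AutPOmega.Involution

/-!
Isometries with scalar square: a conjugate in the commutator subgroup normalises a self-adjoint structure.
-/

set_option autoImplicit false
set_option linter.unusedSectionVars false
set_option linter.style.haveILetI false

namespace Cfsg.Agent.OrthExt

open Module QuadraticMap Cfsg.Agent.Classical Cfsg.Agent.Classical.Quad

universe u v

variable {F : Type u} [Field F] {V : Type v} [AddCommGroup V] [Module F V] [FiniteDimensional F V]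
  {Q : QuadraticForm F V} {t : F}

section step

variable (h2 : (2 : F) ≠ 0) {a b : V} (ha : Q a ≠ 0) (hb : Q b ≠ 0) (hab : polar Q a b = 0)
include h2 ha hb hab

theorem exists_proj : ∃ π : V →ₗ[F] perpPair Q a b,
    ∀ v, v = (polar Q a v / (2 * Q a)) • a + (polar Q b v / (2 * Q b)) • b + (π v : V) := by
  let f : V →ₗ[F] V := LinearMap.id - (LinearMap.toSpanSingleton F V ((2 * Q a)⁻¹ • a)).comp (polarBilin Q a) -
    (LinearMap.toSpanSingleton F V ((2 * Q b)⁻¹ • b)).comp (polarBilin Q b)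
  have hf : ∀ v, f v = v - (polar Q a v / (2 * Q a)) • a - (polar Q b v / (2 * Q b)) • b := fun v => by
    simp [f, smul_smul, div_eq_mul_inv]
  refine ⟨f.codRestrict _ fun v => mem_perpPair.2 ?_, fun v => ?_⟩
  · rw [hf, polar_sub_right, polar_sub_right, polar_smul_right, polar_smul_right, polar_sub_right, polar_sub_right,
      polar_smul_right, polar_smul_right, polar_self', polar_self', hab, polar_comm Q b a, hab]
    simp [h2, ha, hb]
  · rw [LinearMap.codRestrict_apply, hf]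
    abel

theorem nondeg_pair (hQ : (polarBilin Q).Nondegenerate) : (polarBilin (restrictPair Q a b)).Nondegenerate :=
  nondeg_of fun x hx => Subtype.ext (Quad.eq_zero_of_polar hQ fun y => by
    obtain ⟨π, hπ⟩ := exists_proj h2 ha hb hab
    have h := mem_perpPair.1 x.2
    have hp : polar Q (x : V) (π y : V) = 0 := hx (π y)
    rw [hπ y, polar_add_right, polar_add_right, polar_smul_right, polar_smul_right, polar_comm Q (x : V) a, h.1,
      polar_comm Q (x : V) b, h.2, hp]
    simp)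

theorem finrank_pair : finrank F (perpPair Q a b) + 2 = finrank F V := by
  let f : V →ₗ[F] F × F := (polarBilin Q a).prod (polarBilin Q b)
  have hk : LinearMap.ker f = perpPair Q a b := by
    ext x
    simp [f, mem_perpPair]
  have hs : LinearMap.range f = ⊤ := LinearMap.range_eq_top.2 fun y =>
    ⟨(y.1 / (2 * Q a)) • a + (y.2 / (2 * Q b)) • b, by
      ext <;> simp [f, polar_add_right, polar_smul_right, polar_self', hab, polar_comm Q b a, h2, ha, hb]⟩
  have := LinearMap.finrank_range_add_finrank_ker f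
  rw [hk, hs, finrank_top, Module.finrank_prod, Module.finrank_self] at this
  omega

/-- Adding an orthogonal pair. -/
theorem exists_step {J' : perpPair Q a b →ₗ[F] perpPair Q a b} (hJ' : IsSA (restrictPair Q a b) J' t) {α β : F}
    (h : α * α + β * β * (Q a * Q b) = t) :
    ∃ J : V →ₗ[F] V, IsSA Q J t ∧ J a = α • a + (β * Q a) • b ∧ J b = (β * Q b) • a + (-α) • b ∧
      ∀ y : perpPair Q a b, J y = J' y := by
  obtain ⟨π, hπ⟩ := exists_proj h2 ha hb hab
  let J : V →ₗ[F] V :=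
    (LinearMap.toSpanSingleton F V ((2 * Q a)⁻¹ • (α • a + (β * Q a) • b))).comp (polarBilin Q a) +
      (LinearMap.toSpanSingleton F V ((2 * Q b)⁻¹ • ((β * Q b) • a + (-α) • b))).comp (polarBilin Q b) +
      (perpPair Q a b).subtype.comp (J'.comp π)
  have hJ : ∀ v, J v = (polar Q a v / (2 * Q a)) • (α • a + (β * Q a) • b) +
      (polar Q b v / (2 * Q b)) • ((β * Q b) • a + (-α) • b) + (J' (π v) : V) := fun v => by
    simp [J, smul_smul, div_eq_mul_inv]
    match_scalars <;> ring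
  have hπp : ∀ y : perpPair Q a b, π y = y := fun y => Subtype.ext (by
    have h' := hπ (y : V)
    rw [(mem_perpPair.1 y.2).1, (mem_perpPair.1 y.2).2, zero_div, zero_div, zero_smul, zero_smul, zero_add,
      zero_add] at h'
    exact h'.symm)
  have hπab : π a = 0 ∧ π b = 0 := by
    constructor <;> refine Subtype.ext ?_
    · have h' := hπ a
      rw [polar_self', div_self (mul_ne_zero h2 ha), one_smul, polar_comm Q b a, hab, zero_div, zero_smul,
        add_zero, left_eq_add] at h'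
      exact h'
    · have h' := hπ b
      rw [polar_self', div_self (mul_ne_zero h2 hb), one_smul, hab, zero_div, zero_smul, zero_add,
        left_eq_add] at h'
      exact h'
  have hJa : J a = α • a + (β * Q a) • b := by
    rw [hJ, hπab.1, map_zero, polar_self', div_self (mul_ne_zero h2 ha), polar_comm Q b a, hab]
    simp
  have hJb : J b = (β * Q b) • a + (-α) • b := by
    rw [hJ, hπab.2, map_zero, polar_self', div_self (mul_ne_zero h2 hb), hab]
    simp
  have hJy : ∀ y : perpPair Q a b, J y = J' y := fun y => by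
    rw [hJ, hπp, (mem_perpPair.1 y.2).1, (mem_perpPair.1 y.2).2]
    simp
  refine ⟨J, ⟨fun x y => ?_, fun x => ?_⟩, hJa, hJb, hJy⟩
  · have key : ∀ (c₁ c₂ d₁ d₂ : F) (x' y' : perpPair Q a b),
        polar Q (J (c₁ • a + c₂ • b + (x' : V))) (d₁ • a + d₂ • b + (y' : V)) =
          polar Q (c₁ • a + c₂ • b + (x' : V)) (J (d₁ • a + d₂ • b + (y' : V))) := by
      intro c₁ c₂ d₁ d₂ x' y'
      have h' : polar Q (J' x' : V) (y' : V) = polar Q (x' : V) (J' y' : V) := hJ'.sa x' y'
      simp only [map_add, map_smul, hJa, hJb, hJy, polar_add_left, polar_add_right, polar_smul_left,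
        polar_smul_right, polar_self', hab, polar_comm Q b a, h', polar_comm Q (x' : V) a, polar_comm Q (x' : V) b,
        polar_comm Q ((J' x' : perpPair Q a b) : V) a, polar_comm Q ((J' x' : perpPair Q a b) : V) b,
        (mem_perpPair.1 x'.2).1, (mem_perpPair.1 x'.2).2, (mem_perpPair.1 y'.2).1, (mem_perpPair.1 y'.2).2,
        (mem_perpPair.1 (J' x').2).1, (mem_perpPair.1 (J' x').2).2, (mem_perpPair.1 (J' y').2).1,
        (mem_perpPair.1 (J' y').2).2, smul_eq_mul]
      ring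
    have := key (polar Q a x / (2 * Q a)) (polar Q b x / (2 * Q b)) (polar Q a y / (2 * Q a))
      (polar Q b y / (2 * Q b)) (π x) (π y)
    rwa [← hπ x, ← hπ y] at this
  · conv_lhs => rw [hπ x]
    conv_rhs => rw [hπ x]
    have h' : J (J (π x : V)) = t • (π x : V) := by
      rw [hJy, hJy]
      exact congrArg Subtype.val (hJ'.sq (π x))
    simp only [map_add, map_smul, hJa, hJb, smul_add, smul_smul, h']
    rw [← h]
    match_scalars <;> ring

end step

section finite

variable [Fintype F]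

theorem exists_pair_coeff (h2 : (2 : F) ≠ 0) (ht : t ≠ 0) {c : F} (hc : c ≠ 0) :
    ∃ α β : F, α * α + β * β * c = t := by
  obtain ⟨α, β, h⟩ := exists_binary_one h2 (inv_ne_zero ht) (div_ne_zero hc ht)
  exact ⟨α, β, by field_simp at h; linear_combination h⟩

/-- Every even-dimensional space carries a self-adjoint structure. -/
theorem exists_SA (h2 : (2 : F) ≠ 0) (ht : t ≠ 0) : ∀ (n : ℕ) {W : Type v} [AddCommGroup W] [Module F W]
    [FiniteDimensional F W] (R : QuadraticForm F W), (polarBilin R).Nondegenerate → finrank F W = 2 * n →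
    ∃ J : W →ₗ[F] W, IsSA R J t := by
  intro n
  induction n with
  | zero =>
    intro W _ _ _ R _ hW
    haveI : Subsingleton W := Module.finrank_zero_iff.1 hW
    exact ⟨0, ⟨fun x y => by simp, fun x => Subsingleton.elim _ _⟩⟩
  | succ n ih =>
    intro W _ _ _ R hR hW
    obtain ⟨a, ha⟩ := exists_aniso hR (by omega)
    have hS : LinearMap.BilinForm.IsSymm (polarBilin R : LinearMap.BilinForm F W) := ⟨fun x y => polar_comm R x y⟩
    have hb : ∀ x, polarBilin R x x = 2 * R x := fun x => polar_self' x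
    obtain ⟨b, hab, hb'⟩ := exists_orth_next h2 hS hR (a := ![a])
      (fun i j h => absurd (Subsingleton.elim i j) h) (fun i => by simp [Fin.fin_one_eq_zero i, hb, h2, ha]) (by omega)
    rw [hb] at hb'
    have hbne : R b ≠ 0 := fun h => hb' (by rw [h, mul_zero])
    have hab' : polar R a b = 0 := hab 0
    obtain ⟨J', hJ'⟩ := ih _ (nondeg_pair h2 ha hbne hab' hR) (by
      have := finrank_pair h2 ha hbne hab'
      omega)
    obtain ⟨α, β, h⟩ := exists_pair_coeff h2 ht (mul_ne_zero ha hbne)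
    obtain ⟨J, hJ, -⟩ := exists_step h2 ha hbne hab' hJ' h
    exact ⟨J, hJ⟩

/-- Two structures anticommuting with an isometry with square `-1`, exchanged by a reflection. -/
theorem exists_SA_anti (h2 : (2 : F) ≠ 0) (ht : t ≠ 0) : ∀ (n : ℕ) {W : Type v} [AddCommGroup W] [Module F W]
    [FiniteDimensional F W] (R : QuadraticForm F W), (polarBilin R).Nondegenerate → finrank F W = 2 * n →
    ∀ x : W →ₗ[F] W, (∀ v, R (x v) = R v) → (∀ v, x (x v) = -v) →
    ∃ J : W →ₗ[F] W, IsSA R J t ∧ (∀ v, x (J v) = -J (x v)) ∧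
      (1 ≤ n → ∃ (a : W) (ha : R a ≠ 0) (J₂ : W →ₗ[F] W), IsSA R J₂ t ∧ (∀ v, x (J₂ v) = -J₂ (x v)) ∧
        ∀ v, (rO ha).1 (J v) = J₂ ((rO ha).1 v)) := by
  intro n
  induction n with
  | zero =>
    intro W _ _ _ R _ hW x _ _
    haveI : Subsingleton W := Module.finrank_zero_iff.1 hW
    exact ⟨0, ⟨fun x y => by simp, fun x => Subsingleton.elim _ _⟩, fun v => Subsingleton.elim _ _,
      fun h => absurd h (by omega)⟩
  | succ n ih =>
    intro W _ _ _ R hR hW x hx hxx
    obtain ⟨a, ha⟩ := exists_aniso hR (by omega)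
    have hxp : ∀ u v, polar R (x u) (x v) = polar R u v := fun u v => by simp only [polar, ← map_add, hx]
    have hb : R (x a) ≠ 0 := by rwa [hx]
    have hab : polar R a (x a) = 0 := by
      have h := hxp a (x a)
      rw [hxx, polar_neg_right, polar_comm R (x a) a] at h
      exact (mul_eq_zero.1 (by linear_combination -h : (2 : F) * polar R a (x a) = 0)).resolve_left h2
    have hinv : ∀ y ∈ perpPair R a (x a), x y ∈ perpPair R a (x a) := fun y hy => by
      obtain ⟨h1, h1'⟩ := mem_perpPair.1 hy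
      refine mem_perpPair.2 ⟨?_, by rw [hxp, h1]⟩
      have h := hxp a (x y)
      rw [hxx, polar_neg_right, h1', neg_zero] at h
      exact h.symm
    let x' := x.restrict hinv
    obtain ⟨J', hJ', hxJ', -⟩ := ih _ (nondeg_pair h2 ha hb hab hR) (by
      have := finrank_pair h2 ha hb hab
      omega) x' (fun v => hx v.1) (fun v => Subtype.ext (hxx v.1))
    have mk : ∀ α β : F, α * α + β * β * (R a * R (x a)) = t → ∃ J : W →ₗ[F] W, IsSA R J t ∧
        (∀ v, x (J v) = -J (x v)) ∧ J a = α • a + (β * R a) • x a ∧ J (x a) = (β * R a) • a + (-α) • x a ∧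
        ∀ y : perpPair R a (x a), J y = J' y := by
      intro α β h
      obtain ⟨J, hJ, hJa, hJb, hJy⟩ := exists_step h2 ha hb hab hJ' h
      rw [hx] at hJb
      refine ⟨J, hJ, fun v => ?_, hJa, hJb, hJy⟩
      obtain ⟨π, hπ⟩ := exists_proj h2 ha hb hab
      have hy : x (J (π v : W)) = -J (x (π v : W)) := by
        rw [hJy, show J (x (π v : W)) = J (x' (π v) : W) from rfl, hJy]
        exact congrArg Subtype.val (hxJ' (π v))
      rw [hπ v]
      simp only [map_add, map_smul, map_neg, hJa, hJb, hxx, hy, smul_add, smul_neg, smul_smul]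
      module
    obtain ⟨α, β, h⟩ := exists_pair_coeff h2 ht (mul_ne_zero ha hb)
    obtain ⟨J, hJ, hxJ, hJa, hJb, hJy⟩ := mk α β h
    obtain ⟨J₂, hJ₂, hxJ₂, hJ₂a, hJ₂b, hJ₂y⟩ := mk α (-β) (by linear_combination h)
    refine ⟨J, hJ, hxJ, fun _ => ⟨a, ha, J₂, hJ₂, hxJ₂, fun v => ?_⟩⟩
    obtain ⟨π, hπ⟩ := exists_proj h2 ha hb hab
    have h1 : (rO ha).1 a = -a := refl_neg ha
    have h2' : (rO ha).1 (x a) = x a := refl_fix ha (by rw [polar_comm, hab])
    have h3 : ∀ y : perpPair R a (x a), (rO ha).1 (y : W) = y := fun y =>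
      refl_fix ha (by rw [polar_comm]; exact (mem_perpPair.1 y.2).1)
    rw [hπ v]
    simp only [map_add, map_smul, map_neg, hJa, hJb, hJy, h1, h2', h3, hJ₂a, hJ₂b, hJ₂y]
    module

variable [Finite V]

/-- Isometries with scalar square normalise a conjugate of every structure, inside the commutator subgroup. -/
theorem exists_conj_two {J : V →ₗ[F] V} (h2 : (2 : F) ≠ 0) (ht : ¬ IsSquare t)
    (hQ : (polarBilin Q).Nondegenerate) {d : ℕ} (hd : finrank F V = 2 * d) (hd2 : 2 ≤ d) (hJ : IsSA Q J t)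
    (x : oG Q) {z : F} (hz : z * z = 1) (hxx : ∀ v, x.1 (x.1 v) = z • v)
    (hdet : LinearMap.det (x.1 : V →ₗ[F] V) = 1) :
    ∃ g ∈ commutator (oG Q), ∀ v, (g⁻¹ * x * g).1 (J v) = z • J ((g⁻¹ * x * g).1 v) := by
  have ht0 : t ≠ 0 := fun h => ht (h ▸ IsSquare.zero)
  have hex := hex_of_two h2 (finrank F V)
  -- two structures exchanged by a reflection
  obtain ⟨J₁, J₂, a, ha, hJ₁, hJ₂, hx₁, hx₂, hrel⟩ : ∃ (J₁ J₂ : V →ₗ[F] V) (a : V) (ha : Q a ≠ 0),
      IsSA Q J₁ t ∧ IsSA Q J₂ t ∧ (∀ v, x.1 (J₁ v) = z • J₁ (x.1 v)) ∧ (∀ v, x.1 (J₂ v) = z • J₂ (x.1 v)) ∧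
      ∀ v, (rO ha).1 (J₁ v) = J₂ ((rO ha).1 v) := by
    rcases mul_self_eq_one_iff.1 hz with rfl | rfl
    · obtain ⟨hcompl, hsum, hdete⟩ := AutPOmega.det_involution h2 (g := (x.1 : V →ₗ[F] V)) fun v => by
        simpa using hxx v
      set A := LinearMap.ker ((x.1 : V →ₗ[F] V) - LinearMap.id)
      set B := LinearMap.ker ((x.1 : V →ₗ[F] V) + LinearMap.id)
      have hA : ∀ v, v ∈ A ↔ x.1 v = v := fun v => by simp [A, sub_eq_zero]
      have hB : ∀ v, v ∈ B ↔ x.1 v = -v := fun v => by simp [B, add_eq_zero_iff_eq_neg]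
      have horth : ∀ u ∈ A, ∀ v ∈ B, polar Q u v = 0 := fun u hu v hv => by
        have h := polar_oG x u v
        rw [(hA u).1 hu, (hB v).1 hv, polar_neg_right] at h
        exact (mul_eq_zero.1 (by linear_combination -h : (2 : F) * polar Q u v = 0)).resolve_left h2
      have hdec : ∀ v, ∃ u ∈ A, ∃ w ∈ B, u + w = v := fun v =>
        Submodule.mem_sup.1 (hcompl.sup_eq_top ▸ Submodule.mem_top)
      have hnA : (polarBilin (Q.comp A.subtype)).Nondegenerate := nondeg_of fun u hu => Subtype.ext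
        (Quad.eq_zero_of_polar hQ fun y => by
          obtain ⟨y₁, hy₁, y₂, hy₂, rfl⟩ := hdec y
          have : polar Q (u : V) y₁ = 0 := hu ⟨y₁, hy₁⟩
          rw [polar_add_right, this, horth _ u.2 _ hy₂, add_zero])
      have hnB : (polarBilin (Q.comp B.subtype)).Nondegenerate := nondeg_of fun u hu => Subtype.ext
        (Quad.eq_zero_of_polar hQ fun y => by
          obtain ⟨y₁, hy₁, y₂, hy₂, rfl⟩ := hdec y
          have : polar Q (u : V) y₂ = 0 := hu ⟨y₂, hy₂⟩
          rw [polar_add_right, this, polar_comm Q (u : V) y₁, horth _ hy₁ _ u.2, add_zero])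
      obtain ⟨k, hk⟩ : Even (finrank F B) := by
        by_contra h
        rw [hdete, (Nat.not_even_iff_odd.1 h).neg_one_pow] at hdet
        exact h2 (by linear_combination -hdet)
      obtain ⟨JA, hJA⟩ := exists_SA h2 ht0 (d - k) _ hnA (by omega)
      obtain ⟨JB, hJB⟩ := exists_SA h2 ht0 k _ hnB (by omega)
      let e := Submodule.prodEquivOfIsCompl A B hcompl
      let J₁ : V →ₗ[F] V := e.toLinearMap.comp ((JA.prodMap JB).comp e.symm.toLinearMap)
      have hJ₁A : ∀ (u : A) (w : B), J₁ ((u : V) + w) = (JA u : V) + JB w := fun u w => by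
        have : e.symm ((u : V) + w) = (u, w) := e.injective (by simp [e])
        simp [J₁, this, e]
      have hsa : IsSA Q J₁ t := by
        refine ⟨fun p q => ?_, fun p => ?_⟩
        · obtain ⟨p₁, hp₁, p₂, hp₂, rfl⟩ := hdec p
          obtain ⟨q₁, hq₁, q₂, hq₂, rfl⟩ := hdec q
          rw [hJ₁A ⟨p₁, hp₁⟩ ⟨p₂, hp₂⟩, hJ₁A ⟨q₁, hq₁⟩ ⟨q₂, hq₂⟩]
          have e1 : polar Q (JA ⟨p₁, hp₁⟩ : V) q₁ = polar Q p₁ (JA ⟨q₁, hq₁⟩ : V) := hJA.sa ⟨p₁, hp₁⟩ ⟨q₁, hq₁⟩
          have e2 : polar Q (JB ⟨p₂, hp₂⟩ : V) q₂ = polar Q p₂ (JB ⟨q₂, hq₂⟩ : V) := hJB.sa ⟨p₂, hp₂⟩ ⟨q₂, hq₂⟩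
          simp only [polar_add_left, polar_add_right, horth _ (JA ⟨p₁, hp₁⟩).2 _ hq₂,
            horth _ hp₁ _ (JB ⟨q₂, hq₂⟩).2, polar_comm Q (JB ⟨p₂, hp₂⟩ : V) q₁, horth _ hq₁ _ (JB ⟨p₂, hp₂⟩).2,
            polar_comm Q p₂ (JA ⟨q₁, hq₁⟩ : V), horth _ (JA ⟨q₁, hq₁⟩).2 _ hp₂, e1, e2]
        · obtain ⟨p₁, hp₁, p₂, hp₂, rfl⟩ := hdec p
          rw [hJ₁A ⟨p₁, hp₁⟩ ⟨p₂, hp₂⟩, hJ₁A, hJA.sq, hJB.sq, smul_add]
          rfl
      have hx₁ : ∀ v, x.1 (J₁ v) = (1 : F) • J₁ (x.1 v) := fun v => by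
        obtain ⟨p₁, hp₁, p₂, hp₂, rfl⟩ := hdec v
        rw [one_smul, map_add x.1, (hA p₁).1 hp₁, (hB p₂).1 hp₂, hJ₁A ⟨p₁, hp₁⟩ ⟨p₂, hp₂⟩, map_add x.1,
          (hA _).1 (JA ⟨p₁, hp₁⟩).2, (hB _).1 (JB ⟨p₂, hp₂⟩).2,
          show p₁ + -p₂ = ((⟨p₁, hp₁⟩ : A) : V) + ((-⟨p₂, hp₂⟩ : B) : V) from rfl, hJ₁A, map_neg]
        rfl
      obtain ⟨a, ha, c, hca⟩ : ∃ (a : V) (_ : Q a ≠ 0) (c : F), x.1 a = c • a := by
        by_cases hA0 : finrank F A = 0
        · obtain ⟨a, ha⟩ := exists_aniso hnB (by omega)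
          exact ⟨a, ha, -1, by rw [(hB _).1 a.2, neg_one_smul]⟩
        · obtain ⟨a, ha⟩ := exists_aniso hnA (by omega)
          exact ⟨a, ha, 1, by rw [(hA _).1 a.2, one_smul]⟩
      have hcomm : ∀ v, (rO ha).1 (x.1 v) = x.1 ((rO ha).1 v) := fun v => by
        have hc : c * c = 1 := by
          have := x.2 a
          rw [hca, map_smul'] at this
          exact mul_right_cancel₀ ha (by rw [this, one_mul])
        have h := polar_oG x v a
        rw [hca, polar_smul_right, smul_eq_mul] at h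
        rw [rO_apply, rO_apply, map_sub, map_smul, hca, smul_smul]
        congr 2
        field_simp
        linear_combination c * h - polar Q (x.1 v) a * hc
      refine ⟨J₁, (rO ha).1.toLinearMap.comp (J₁.comp (rO ha).1.toLinearMap), a, ha, hsa, ⟨fun p q => ?_, fun p => ?_⟩,
        hx₁, fun v => ?_, fun v => ?_⟩
      · show polar Q ((rO ha).1 (J₁ ((rO ha).1 p))) q = polar Q p ((rO ha).1 (J₁ ((rO ha).1 q)))
        conv_lhs => rw [← (refl ha).symm_apply_apply q]
        conv_rhs => rw [← (refl ha).symm_apply_apply p]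
        show polar Q _ ((rO ha).1 ((rO ha).1 q)) = polar Q ((rO ha).1 ((rO ha).1 p)) _
        rw [polar_oG, polar_oG, hsa.sa]
      · show (rO ha).1 (J₁ ((rO ha).1 ((rO ha).1 (J₁ ((rO ha).1 p))))) = t • p
        rw [← oG_mul_apply (rO ha) (rO ha) (J₁ _), rO_mul_self, oG_one_apply, hsa.sq, map_smul,
          ← oG_mul_apply, rO_mul_self, oG_one_apply]
      · show x.1 ((rO ha).1 (J₁ ((rO ha).1 v))) = (1 : F) • (rO ha).1 (J₁ ((rO ha).1 (x.1 v)))
        rw [hcomm, ← hcomm, hx₁, map_smul]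
      · show _ = (rO ha).1 (J₁ ((rO ha).1 ((rO ha).1 v)))
        rw [← oG_mul_apply, rO_mul_self, oG_one_apply]
    · obtain ⟨J₁, hJ₁, hx₁, hrest⟩ := exists_SA_anti h2 ht0 d Q hQ hd (x.1 : V →ₗ[F] V) x.2 (fun v => by
        simpa using hxx v)
      obtain ⟨a, ha, J₂, hJ₂, hx₂, hrel⟩ := hrest (by omega)
      exact ⟨J₁, J₂, a, ha, hJ₁, hJ₂, fun v => (hx₁ v).trans (neg_one_smul F _).symm,
        fun v => (hx₂ v).trans (neg_one_smul F _).symm, hrel⟩
  -- a proper isometry onto one of them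
  obtain ⟨g, J', hx', hg, hgd⟩ : ∃ (g : oG Q) (J' : V →ₗ[F] V), (∀ v, x.1 (J' v) = z • J' (x.1 v)) ∧
      (∀ v, g.1 (J v) = J' (g.1 v)) ∧ dickson hQ hex g = 1 := by
    obtain ⟨g, hg⟩ := exists_conj h2 ht hQ hd hJ hJ₁
    rcases Int.units_eq_one_or (dickson hQ hex g) with h | h
    · exact ⟨g, J₁, hx₁, hg, h⟩
    · refine ⟨rO ha * g, J₂, hx₂, fun v => ?_, by rw [map_mul, dickson_rO, h]; rfl⟩
      rw [oG_mul_apply, oG_mul_apply, hg, hrel]
  -- adjusting the spinor norm
  obtain ⟨g', hg', hgd', hgs'⟩ : ∃ g' : oG Q, (∀ v, g'.1 (J v) = J' (g'.1 v)) ∧ dickson hQ hex g' = 1 ∧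
      spin Q g' = 1 := by
    rcases Int.units_eq_one_or (spin Q g) with h | h
    · exact ⟨g, hg, hgd, h⟩
    haveI := fact_nonsquare ht
    haveI : Finite (QuadraticAlgebra F t 0) := Module.finite_of_finite F
    haveI : Module.Finite (QuadraticAlgebra F t 0) (Tw hJ) := Module.Finite.of_restrictScalars_finite F _ _
    have hdim := finrank_Tw (t := t) hJ
    obtain ⟨v', hv'⟩ := Quad.exists_value (qfL_nondeg h2 hQ hJ) (fun h => h2 (congrArg QuadraticAlgebra.re h))
      (by omega) (c := (⟨0, 1⟩ : QuadraticAlgebra F t 0)) (fun h => one_ne_zero (congrArg QuadraticAlgebra.im h))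
    set v := ofTw hJ v' with hv
    have hQv : Q v = 1 := by rw [hv, ← qfL_im h2, hv']
    have hvJ : polar Q v (J v) = 0 := by
      have := congrArg QuadraticAlgebra.re hv'
      rw [qfL_apply] at this
      exact (mul_eq_zero.1 this).resolve_left (inv_ne_zero h2)
    have hv0 : Q v ≠ 0 := by rw [hQv]; exact one_ne_zero
    have hJv : Q (J v) = t := by rw [hJ.map_J h2, hQv, mul_one]
    have hJv0 : Q (J v) ≠ 0 := by rwa [hJv]
    refine ⟨g * (rO hv0 * rO hJv0), fun w => ?_, ?_, ?_⟩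
    · have hc : ∀ w, (rO hv0 * rO hJv0).1 w = w - (polar Q w v) • v - (polar Q w (J v) / t) • J v := fun w => by
        rw [oG_mul_apply, rO_apply, rO_apply, hQv, hJv, polar_sub_left, polar_smul_left, polar_comm Q (J v) v, hvJ,
          smul_zero, sub_zero, div_one]
        abel
      rw [oG_mul_apply g, oG_mul_apply g, ← hg, hc, hc]
      congr 1
      simp only [map_sub, map_smul, hJ.sq, hJ.sa w, hJ.sa w (J v), polar_smul_right, smul_eq_mul]
      match_scalars <;> field_simp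
    · rw [map_mul, hgd, map_mul, dickson_rO, dickson_rO]
      rfl
    · rw [map_mul, h, (exists_rO_prod hQ hex hv0 hJv0).2 h2, hQv, hJv, one_mul,
        (Int.units_eq_one_or (qs t)).resolve_left (mt qs_eq_one.1 ht)]
      rfl
  refine ⟨g', (mem_commutator_iff hQ h2 (by omega) g').2 ⟨hgd', hgs'⟩, fun v => g'.1.injective ?_⟩
  rw [oG_mul_apply, oG_mul_apply, oG_apply_inv, hg', hx', map_smul, hg', oG_mul_apply, oG_mul_apply, oG_apply_inv]

end finite

end Cfsg.Agent.OrthExt
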