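import Cfsg.Prelude.Def_GeometricClasses
import Cfsg.Agent.OrthExt.Elem
import Cfsg.Agent.OrthExt.Two
import Cfsg.Agent.Classical.OrthMat

/-!
Elements of prime order of `PΩ` in even dimension and the subgroups of orthogonal type over the quadratic extension.
-/

set_option autoImplicit false
set_option linter.unusedSectionVars false
set_option linter.style.haveILetI false

namespace Cfsg.Agent.OrthExt

open Module QuadraticMap Matrix Cfsg.Agent.Classical Cfsg.Agent.Classical.Quad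

universe u

variable {F : Type u} [Field F] {ι : Type} [Fintype ι] [DecidableEq ι]

/-- The generator of the field. -/
theorem exists_gen [Nonempty ι] (h2 : (2 : F) ≠ 0) {K : Subalgebra F (Matrix ι ι F)}
    (hK : Cfsg.Geo.IsFieldSubalgebra 2 K) :
    ∃ (J : Matrix ι ι F) (t : F), J ∈ K ∧ J * J = t • 1 ∧ ¬ IsSquare t ∧
      ∀ k, k ∈ K ↔ ∃ a b : F, k = a • 1 + b • J := by
  classical
  haveI : FiniteDimensional F K := Module.finite_of_finrank_pos (hK.finrank_eq.symm ▸ two_pos)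
  obtain ⟨k₀, hk₀, hne⟩ : ∃ k₀ ∈ K, ∀ c : F, k₀ ≠ c • 1 := by
    by_contra hc
    push Not at hc
    have hle : finrank F K ≤ finrank F (Submodule.span F {(1 : Matrix ι ι F)}) :=
      Submodule.finrank_mono (s := K.toSubmodule) fun k hk => by
        obtain ⟨c, rfl⟩ := hc k hk
        exact Submodule.smul_mem _ _ (Submodule.mem_span_singleton_self _)
    rw [hK.finrank_eq, finrank_span_singleton one_ne_zero] at hle
    omega
  have hspan : ∀ y, y ∈ K ↔ ∃ a b : F, y = a • 1 + b • k₀ := by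
    intro y
    refine ⟨fun hy => ?_, fun ⟨a, b, e⟩ => e ▸ add_mem (K.smul_mem K.one_mem a) (K.smul_mem hk₀ b)⟩
    let f : F × F →ₗ[F] K := (LinearMap.toSpanSingleton F K 1).coprod (LinearMap.toSpanSingleton F K ⟨k₀, hk₀⟩)
    have hfv : ∀ w, (f w : Matrix ι ι F) = w.1 • 1 + w.2 • k₀ := fun w => by simp [f]
    have hfi : Function.Injective f := (injective_iff_map_eq_zero f).2 fun w hw => by
      have h := hfv w
      rw [hw, ZeroMemClass.coe_zero] at h
      by_cases h0 : w.2 = 0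
      · rw [h0, zero_smul, add_zero, eq_comm, smul_eq_zero] at h
        exact Prod.ext (h.resolve_right one_ne_zero) h0
      · refine absurd ?_ (hne (-(w.2⁻¹ * w.1)))
        have h' := congrArg (w.2⁻¹ • ·) h
        simp only [smul_zero, smul_add, smul_smul, inv_mul_cancel₀ h0, one_smul] at h'
        rw [neg_smul]
        exact (eq_neg_of_add_eq_zero_right h'.symm)
    obtain ⟨w, hw⟩ := (LinearMap.injective_iff_surjective_of_finrank_eq_finrank
      (by rw [Module.finrank_prod, finrank_self, hK.finrank_eq])).1 hfi ⟨y, hy⟩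
    exact ⟨w.1, w.2, by rw [← hfv, hw]⟩
  obtain ⟨a, b, hab⟩ := (hspan _).1 (mul_mem hk₀ hk₀)
  set J := k₀ + (-(b / 2)) • 1 with hJdef
  have hJK : J ∈ K := add_mem hk₀ (K.smul_mem K.one_mem _)
  have hJ2 : J * J = (a + b / 2 * (b / 2)) • 1 := by
    simp only [hJdef, add_mul, mul_add, Matrix.smul_mul, Matrix.mul_smul, mul_one, one_mul, hab, smul_smul]
    match_scalars <;> field_simp <;> ring
  refine ⟨J, a + b / 2 * (b / 2), hJK, hJ2, ?_, fun k => (hspan k).trans ⟨?_, ?_⟩⟩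
  · rintro ⟨s, hs⟩
    have hz : (J - s • 1) * (J + s • 1) = 0 := by
      simp only [sub_mul, mul_add, Matrix.smul_mul, Matrix.mul_smul, mul_one, one_mul, hJ2, hs, smul_smul]
      abel
    by_cases h : J - s • 1 = 0
    · exact hne (s + b / 2) (by
        rw [sub_eq_zero, hJdef] at h
        rw [add_smul, ← h]
        module)
    · obtain ⟨y, -, hy⟩ := hK.inv _ (sub_mem hJK (K.smul_mem K.one_mem s)) h
      have hy' : y * (J - s • 1) = 1 := mul_eq_one_comm.1 hy
      have h1 : J + s • 1 = 0 := by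
        have h' := congrArg (y * ·) hz
        simp only [← mul_assoc, hy', one_mul, mul_zero] at h'
        exact h'
      exact hne (-s + b / 2) (by
        rw [hJdef] at h1
        rw [← sub_eq_zero, ← h1]
        module)
  · rintro ⟨c, e, rfl⟩
    exact ⟨c + e * (b / 2), e, by rw [hJdef]; module⟩
  · rintro ⟨c, e, rfl⟩
    exact ⟨c - e * (b / 2), e, by rw [hJdef]; module⟩

variable {K : Subalgebra F (Matrix ι ι F)} {J : Matrix ι ι F} {t : F}

theorem mem_norm (hspan : ∀ k, k ∈ K ↔ ∃ a b : F, k = a • 1 + b • J) {g : GL ι F} {ε : F}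
    (hε : ε * ε = 1) (hg : g.1 * J = ε • (J * g.1)) : g ∈ Cfsg.Geo.subalgebraNormalizer K := by
  have hc : ∀ a b : F, g.1 * (a • 1 + b • J) * (g⁻¹).1 = a • 1 + (b * ε) • J := fun a b => by
    rw [mul_add, Matrix.mul_smul, Matrix.mul_smul, mul_one, hg, add_mul, Matrix.smul_mul, Matrix.smul_mul,
      Matrix.smul_mul, mul_assoc, ← Units.val_mul, mul_inv_cancel, Units.val_one, mul_one, smul_smul]
  intro k
  refine ⟨fun hk => ?_, fun hk => ?_⟩
  · obtain ⟨a, b, rfl⟩ := (hspan k).1 hk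
    exact (hspan _).2 ⟨a, b * ε, hc a b⟩
  · obtain ⟨a, b, hab⟩ := (hspan _).1 hk
    refine (hspan k).2 ⟨a, b * ε, ?_⟩
    have h' := hc a (b * ε)
    rw [mul_assoc b ε ε, hε, mul_one, ← hab] at h'
    exact ((Units.mul_right_inj g).1 ((Units.mul_left_inj g⁻¹).1 h')).symm

theorem of_norm [Nonempty ι] (h2 : (2 : F) ≠ 0) (hJ2 : J * J = t • 1) (ht : ¬ IsSquare t)
    (hspan : ∀ k, k ∈ K ↔ ∃ a b : F, k = a • 1 + b • J) {g : GL ι F} (hg : g ∈ Cfsg.Geo.subalgebraNormalizer K) :
    ∃ ε : F, ε * ε = 1 ∧ g.1 * J = ε • (J * g.1) := by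
  obtain ⟨a, b, hab⟩ := (hspan _).1 ((hg J).1 ((hspan J).2 ⟨0, 1, by rw [zero_smul, one_smul, zero_add]⟩))
  have hsq : (a • (1 : Matrix ι ι F) + b • J) * (a • 1 + b • J) = t • 1 := by
    rw [← hab, mul_assoc, ← mul_assoc (g⁻¹).1 (g.1 * J), ← mul_assoc (g⁻¹).1 g.1 J, ← Units.val_mul, inv_mul_cancel,
      Units.val_one, one_mul, ← mul_assoc, mul_assoc g.1 J J, hJ2, Matrix.mul_smul, mul_one, Matrix.smul_mul,
      ← Units.val_mul, mul_inv_cancel, Units.val_one]
  have hexp : (a * a + b * b * t - t) • (1 : Matrix ι ι F) + (2 * a * b) • J = 0 := by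
    rw [← sub_eq_zero.2 hsq]
    simp only [add_mul, mul_add, Matrix.smul_mul, Matrix.mul_smul, mul_one, one_mul, hJ2, smul_smul]
    module
  have hnot : ∀ c : F, J ≠ c • 1 := fun c e => ht ⟨c, by
    rw [e, Matrix.smul_mul, Matrix.mul_smul, one_mul, smul_smul] at hJ2
    exact (smul_left_injective F (one_ne_zero (α := Matrix ι ι F)) hJ2).symm⟩
  have hab0 : 2 * a * b = 0 := by
    by_contra h
    refine hnot (-((2 * a * b)⁻¹ * (a * a + b * b * t - t))) ?_
    have h' := congrArg ((2 * a * b)⁻¹ • ·) hexp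
    simp only [smul_zero, smul_add, smul_smul, inv_mul_cancel₀ h, one_smul] at h'
    rw [neg_smul]
    exact eq_neg_of_add_eq_zero_right h'
  rw [hab0, zero_smul, add_zero, smul_eq_zero] at hexp
  have ha2 := hexp.resolve_right one_ne_zero
  rcases mul_eq_zero.1 hab0 with h | h
  · have ha : a = 0 := (mul_eq_zero.1 h).resolve_left h2
    refine ⟨b, mul_right_cancel₀ (b := t) (fun e => ht (e ▸ IsSquare.zero)) (by rw [ha] at ha2; linear_combination ha2), ?_⟩
    have h' := congrArg (· * g.1) hab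
    simp only [mul_assoc, ← Units.val_mul, inv_mul_cancel, Units.val_one, mul_one] at h'
    rw [h', ha, zero_smul, zero_add, Matrix.smul_mul]
  · exact absurd ⟨a, by rw [h] at ha2; linear_combination -ha2⟩ ht

variable [Fintype F]

/-- The main equivalence. -/
theorem iff_two {Q : QuadraticForm F (ι → F)} {d : ℕ} {plus : Prop} (hT : IsType Q d plus) (h2 : (2 : F) ≠ 0)
    (hQ : (polarBilin Q).Nondegenerate) (hd : finrank F (ι → F) = 2 * d) (hd4 : 4 ≤ d)
    (hK : Cfsg.Geo.IsFieldSubalgebra 2 K)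
    (hKf : Cfsg.Geo.IsSelfAdjointFor (QuadraticMap.polar (⇑Q)) K) (r : ℕ) [Fact r.Prime]
    (hΩ : r ∣ (Cfsg.Geo.subalgebraNormalizer K).relIndex (Cfsg.Geo.omegaGL (⇑Q))) :
    (∀ x ∈ Cfsg.Geo.omegaGL (⇑Q), (∃ z : F, ((x ^ r : GL ι F) : Matrix ι ι F) = z • (1 : Matrix ι ι F)) →
      (∀ z : F, (x : Matrix ι ι F) ≠ z • (1 : Matrix ι ι F)) →
      ∃ g ∈ Cfsg.Geo.omegaGL (⇑Q), g⁻¹ * x * g ∈ Cfsg.Geo.subalgebraNormalizer K) ↔ r = 2 := by
  classical
  haveI : Nonempty ι := by
    by_contra h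
    rw [not_nonempty_iff] at h
    rw [Module.finrank_fintype_fun_eq_card, Fintype.card_eq_zero] at hd
    omega
  obtain ⟨J, t, hJK, hJ2, ht, hspan⟩ := exists_gen h2 hK
  have ht0 : t ≠ 0 := fun e => ht (e ▸ IsSquare.zero)
  have hn : 2 ≤ finrank F (ι → F) := by omega
  set Jl := Matrix.toLin' J with hJl
  have hJ : IsSA Q Jl t := ⟨fun x y => by rw [hJl, Matrix.toLin'_apply, Matrix.toLin'_apply]; exact hKf J hJK x y,
    fun x => by
      rw [hJl, Matrix.toLin'_apply, Matrix.toLin'_apply, Matrix.mulVec_mulVec, hJ2, Matrix.smul_mulVec,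
        Matrix.one_mulVec]⟩
  let φ : oG Q →* GL ι F := (Cfsg.isometryGroup F ⇑Q).subtype.comp (oEquiv Q).symm.toMonoidHom
  have hφ : ∀ (g : oG Q) (v : ι → F), (φ g).1 *ᵥ v = g.1 v := fun g v => by
    conv_rhs => rw [← (oEquiv Q).apply_symm_apply g]
    rfl
  have hφi : Function.Injective φ := Subtype.val_injective.comp (oEquiv Q).symm.injective
  have hΩeq : Cfsg.Geo.omegaGL ⇑Q = (commutator (oG Q)).map φ := by
    ext g
    constructor
    · rintro ⟨g', hg', rfl⟩
      exact ⟨oEquiv Q g', (mem_omega_iff g').1 hg', by simp [φ]⟩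
    · rintro ⟨g', hg', rfl⟩
      exact ⟨(oEquiv Q).symm g', (mem_omega_iff _).2 (by rwa [MulEquiv.apply_symm_apply]), rfl⟩
  have hdict : ∀ (g : oG Q) (ε : F), (φ g).1 * J = ε • (J * (φ g).1) ↔ ∀ v, g.1 (Jl v) = ε • Jl (g.1 v) := by
    intro g ε
    constructor
    · intro h v
      have h' := congrArg (fun M : Matrix ι ι F => M *ᵥ v) h
      simp only [Matrix.smul_mulVec, ← Matrix.mulVec_mulVec, hφ] at h'
      rw [hJl, Matrix.toLin'_apply, Matrix.toLin'_apply]
      exact h'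
    · intro h
      refine Matrix.ext_of_mulVec_single fun i => ?_
      rw [Matrix.smul_mulVec, ← Matrix.mulVec_mulVec, ← Matrix.mulVec_mulVec, hφ, hφ, ← Matrix.toLin'_apply,
        ← Matrix.toLin'_apply J (g.1 _)]
      exact h _
  have hr' : r.Prime := Fact.out
  constructor
  · intro hall
    by_contra hr2
    have hro : Odd r := hr'.odd_of_ne_two hr2
    have hdvd : r * Nat.card (centJ Q Jl) ∣ Nat.card (oG Q) := by
      haveI : Finite (oG Q) := Finite.of_injective φ hφi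
      have h4 : (commutator (oG Q)).index = 4 := index_commutator_odd hQ h2 hn
      have h1 : Nat.card (centJ Q Jl ⊓ commutator (oG Q) : Subgroup (oG Q)) ∣
          Nat.card ((Cfsg.Geo.subalgebraNormalizer K).subgroupOf (Cfsg.Geo.omegaGL ⇑Q)) := by
        rw [← Subgroup.inf_subgroupOf_right, Nat.card_congr (Subgroup.subgroupOfEquivOfLe inf_le_right).toEquiv,
          ← Subgroup.card_map_of_injective hφi]
        refine Subgroup.card_dvd_of_le ?_
        rintro _ ⟨y, ⟨hyJ, hyc⟩, rfl⟩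
        exact ⟨mem_norm hspan (mul_one 1) ((hdict y 1).2 fun v => by rw [one_smul]; exact hyJ v),
          hΩeq ▸ ⟨y, hyc, rfl⟩⟩
      have hC : Nat.card (centJ Q Jl) ∣ Nat.card (centJ Q Jl ⊓ commutator (oG Q) : Subgroup (oG Q)) * 4 := by
        rw [← Subgroup.card_mul_index ((commutator (oG Q)).subgroupOf (centJ Q Jl)),
          Nat.card_congr (Subgroup.subgroupOfEquivOfLe (inf_le_left : centJ Q Jl ⊓ commutator (oG Q) ≤ _)).symm.toEquiv,
          Subgroup.inf_subgroupOf_left]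
        exact mul_dvd_mul_left _ (h4 ▸ Subgroup.relIndex_dvd_index_of_normal _ _)
      have hΩc : Nat.card (Cfsg.Geo.omegaGL ⇑Q) = Nat.card (commutator (oG Q)) := by
        rw [hΩeq, Subgroup.card_map_of_injective hφi]
      have h2' : r * Nat.card (centJ Q Jl ⊓ commutator (oG Q) : Subgroup (oG Q)) ∣ Nat.card (commutator (oG Q)) := by
        rw [← hΩc, ← Subgroup.card_mul_index ((Cfsg.Geo.subalgebraNormalizer K).subgroupOf (Cfsg.Geo.omegaGL ⇑Q)),
          mul_comm r]
        exact mul_dvd_mul h1 hΩ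
      calc r * Nat.card (centJ Q Jl) ∣ r * (Nat.card (centJ Q Jl ⊓ commutator (oG Q) : Subgroup (oG Q)) * 4) :=
            mul_dvd_mul_left r hC
        _ ∣ Nat.card (commutator (oG Q)) * 4 := by rw [← mul_assoc]; exact mul_dvd_mul_right h2' 4
        _ = Nat.card (oG Q) := by rw [← h4, Subgroup.card_mul_index]
    obtain ⟨x, hxr, hx1, hno⟩ := exists_noSA hT hd4 h2 ht hQ hd hJ hr2 hdvd
    have hxc : x ∈ commutator (oG Q) := by
      rw [mem_commutator_iff hQ h2 hn]
      have hu : ∀ u : ℤˣ, u ^ r = 1 → u = 1 := fun u hu => by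
        rcases Int.units_eq_one_or u with h | h
        · exact h
        · rw [h, hro.neg_one_pow] at hu
          exact absurd hu (by decide)
      exact ⟨hu _ (by rw [← map_pow, hxr, map_one]), hu _ (by rw [← map_pow, hxr, map_one])⟩
    obtain ⟨g, hg, hgN⟩ := hall (φ x) (hΩeq ▸ ⟨x, hxc, rfl⟩)
      ⟨1, by rw [← map_pow, hxr, map_one, one_smul]; rfl⟩ (fun z hz => hno Jl hJ fun v => by
        rw [← hφ, ← hφ, hz, Matrix.smul_mulVec, Matrix.smul_mulVec, Matrix.one_mulVec, Matrix.one_mulVec, map_smul])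
    rw [hΩeq] at hg
    obtain ⟨g, -, rfl⟩ := hg
    rw [← map_inv, ← map_mul, ← map_mul] at hgN
    obtain ⟨ε, hε, hc⟩ := of_norm h2 hJ2 ht hspan hgN
    rw [hdict] at hc
    obtain ⟨y, hy⟩ : ∃ y, g⁻¹ * x * g = y := ⟨_, rfl⟩
    rw [hy] at hc
    have hyr : y ^ r = 1 := by
      rw [← hy]
      have hc' := conj_pow (a := g⁻¹) (b := x) (i := r)
      rw [inv_inv, hxr, mul_one, inv_mul_cancel] at hc'
      exact hc'
    have hε1 : ε = 1 := by
      have hn' : ∀ (n : ℕ) v, (y ^ n).1 (Jl v) = ε ^ n • Jl ((y ^ n).1 v) := by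
        intro n
        induction n with
        | zero => intro v; simp
        | succ n ih => intro v; rw [pow_succ', oG_mul_apply, ih, map_smul, hc, smul_smul, pow_succ, oG_mul_apply]
      obtain ⟨v, hv⟩ := exists_aniso hQ (by omega)
      have hJv : Jl v ≠ 0 := fun h => hv (by
        have h' := hJ.sq v
        rw [h, map_zero, eq_comm, smul_eq_zero] at h'
        rw [h'.resolve_left ht0, map_zero])
      have h5 := hn' r v
      rw [hyr, oG_one_apply, oG_one_apply] at h5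
      rcases mul_self_eq_one_iff.1 hε with h | h
      · exact h
      · rw [h, hro.neg_one_pow] at h5
        exact absurd ((smul_eq_zero.1 (show (2 : F) • Jl v = 0 by
          rw [two_smul]; nth_rw 1 [h5]; rw [neg_one_smul, neg_add_cancel])).resolve_left h2) hJv
    refine hno ((g.1 : (ι → F) →ₗ[F] (ι → F)).comp (Jl.comp ((g⁻¹).1 : (ι → F) →ₗ[F] (ι → F))))
      ⟨fun u v => ?_, fun v => ?_⟩ fun v => ?_
    · show polar Q (g.1 (Jl ((g⁻¹).1 u))) v = polar Q u (g.1 (Jl ((g⁻¹).1 v)))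
      conv_lhs => rw [← oG_apply_inv g v]
      conv_rhs => rw [← oG_apply_inv g u]
      rw [polar_oG, polar_oG, hJ.sa]
    · show g.1 (Jl ((g⁻¹).1 (g.1 (Jl ((g⁻¹).1 v))))) = t • v
      rw [oG_inv_apply, hJ.sq, map_smul, oG_apply_inv]
    · show x.1 (g.1 (Jl ((g⁻¹).1 v))) = g.1 (Jl ((g⁻¹).1 (x.1 v)))
      have hgy : ∀ w, g.1 (y.1 w) = x.1 (g.1 w) := fun w => by
        rw [← hy, oG_mul_apply, oG_mul_apply, oG_apply_inv]
      have h := hc ((g⁻¹).1 v)
      rw [hε1, one_smul] at h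
      rw [← hgy, h, ← hy, oG_mul_apply, oG_mul_apply, oG_apply_inv]
  · rintro rfl x hx ⟨z, hz⟩ hns
    rw [hΩeq] at hx
    obtain ⟨x, hxc, rfl⟩ := hx
    have hxx : ∀ v, x.1 (x.1 v) = z • v := fun v => by
      rw [← hφ x (x.1 v), ← hφ x v, Matrix.mulVec_mulVec, ← Units.val_mul, ← pow_two, hz, Matrix.smul_mulVec,
        Matrix.one_mulVec]
    have hz2 : z * z = 1 := by
      obtain ⟨v, hv⟩ := exists_aniso hQ (by omega)
      have h : Q (x.1 (x.1 v)) = Q v := by rw [x.2, x.2]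
      rw [hxx, Quad.map_smul'] at h
      exact (mul_eq_right₀ hv).1 h
    have hdet : LinearMap.det (x.1 : (ι → F) →ₗ[F] (ι → F)) = 1 := by
      have e : (x.1 : (ι → F) →ₗ[F] (ι → F)) = Matrix.toLin' (φ x).1 := LinearMap.ext fun v => by
        rw [Matrix.toLin'_apply, hφ]; rfl
      rw [e, LinearMap.det_toLin']
      show ((((oEquiv Q).symm x : Cfsg.isometryGroup F ⇑Q) : GL ι F) : Matrix ι ι F).det = 1
      rw [det_eq_dickson hQ (hex_of_two h2 _), MulEquiv.apply_symm_apply, ((mem_commutator_iff hQ h2 hn x).1 hxc).1]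
      simp
    obtain ⟨g, hg, hgJ⟩ := exists_conj_two h2 ht hQ hd (by omega) hJ x hz2 hxx hdet
    refine ⟨φ g, hΩeq ▸ ⟨g, hg, rfl⟩, ?_⟩
    rw [← map_inv, ← map_mul, ← map_mul]
    exact mem_norm hspan hz2 ((hdict _ z).2 hgJ)

end Cfsg.Agent.OrthExt
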